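import Groth.Agent.Sga3A.LiftGL
import Groth.Agent.Proet.EtaleLift
import Mathlib.RingTheory.Smooth.Quotient
import Mathlib.RingTheory.Etale.Basic
import Mathlib.RingTheory.RingHom.Etale
import Mathlib.RingTheory.RingHom.Flat
import Mathlib.RingTheory.Ideal.Quotient.Nilpotent

/-!
# Lifting étale coordinates and principal ideals along nilpotent thickenings

* `etale_of_nilpotent` : lifts to a flat algebra of étale coordinates are étale coordinates;
* `ideal_eq_of_flat` : an ideal with flat quotient is determined by any part generating it modulo a nilpotent ideal of the base;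
* `exists_lift_generator` : generators of principal ideals lift;
* `mem_nonZeroDivisors_of_mod` : nonzerodivisors lift modulo `p`, `p² = 0`, `Ann p = (p)`.
-/

set_option autoImplicit false
universe u

open TensorProduct

namespace K235.Alg

section Etale

variable {A A₀ B B₀ : Type u} [CommRing A] [CommRing A₀] [CommRing B] [CommRing B₀]

theorem le_of_le_sup_smul {R M : Type*} [CommRing R] [AddCommGroup M] [Module R M] {I : Ideal R}
    (hI : IsNilpotent I) {N N' : Submodule R M} (h : N ≤ N' ⊔ I • N) : N ≤ N' := by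
  obtain ⟨k, hk⟩ := hI
  have key : ∀ n : ℕ, N ≤ N' ⊔ I ^ n • N := by
    intro n
    induction n with
    | zero => simp
    | succ n ih =>
      calc N ≤ N' ⊔ I ^ n • N := ih
        _ ≤ N' ⊔ I ^ n • (N' ⊔ I • N) := by gcongr
        _ ≤ N' ⊔ I ^ (n + 1) • N := by
          rw [Submodule.smul_sup, ← sup_assoc]
          refine sup_le_sup (sup_le le_rfl Submodule.smul_le_right) ?_
          rw [← Submodule.mul_smul, pow_succ]
  have := key k
  rw [hk] at this
  simpa using this

/-- Lifts of étale coordinates to a flat algebra over a nilpotent thickening of the base are étale coordinates. -/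
theorem etale_of_nilpotent {n : ℕ} (a : A →+* A₀) (ha : Function.Surjective a)
    (hn : IsNilpotent (RingHom.ker a)) (φ : A →+* B) (hφ : φ.Flat) (b : B →+* B₀)
    (hb : Function.Surjective b) (hk : RingHom.ker b = (RingHom.ker a).map φ) (φ₀ : A₀ →+* B₀)
    (hc : φ₀.comp a = b.comp φ) (v : Fin n → B)
    (h : (MvPolynomial.eval₂Hom φ₀ (fun i => b (v i))).Etale) :
    (MvPolynomial.eval₂Hom φ v).Etale := by
  let P := MvPolynomial (Fin n) A
  let P₀ := MvPolynomial (Fin n) A₀
  let _ : Algebra P P₀ := (MvPolynomial.map a).toAlgebra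
  let _ : Algebra P₀ B₀ := (MvPolynomial.eval₂Hom φ₀ (fun i => b (v i))).toAlgebra
  let _ : Algebra P B := (MvPolynomial.eval₂Hom φ v).toAlgebra
  let _ : Algebra P B₀ := (b.comp (MvPolynomial.eval₂Hom φ v)).toAlgebra
  have hPs : Function.Surjective (algebraMap P P₀) := MvPolynomial.map_surjective a ha
  have het : Algebra.Etale P₀ B₀ := h
  have hst : IsScalarTower P P₀ B₀ := IsScalarTower.of_algebraMap_eq' (by
    change b.comp (MvPolynomial.eval₂Hom φ v) =
      (MvPolynomial.eval₂Hom φ₀ (fun i => b (v i))).comp (MvPolynomial.map a)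
    apply MvPolynomial.ringHom_ext
    · intro r
      have := congrArg (fun f : A →+* B₀ => f r) hc
      simpa using this.symm
    · intro i
      simp)
  obtain ⟨B', _, _, hB', ⟨ε⟩⟩ := Groth.Agent.Proet.EtaleLift.exists_etale_lift P P₀ B₀ hPs
  let b' : B →ₐ[P] B₀ := { b with commutes' := fun r => rfl }
  let g : B' →ₐ[P] B₀ :=
    (ε.toAlgHom.restrictScalars P).comp (Algebra.TensorProduct.includeRight (R := P) (A := P₀) (B := B'))
  have hg : ∀ x, g x = ε (1 ⊗ₜ x) := fun x => rfl
  have hbn : IsNilpotent (RingHom.ker (b' : B →+* B₀)) := by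
    change IsNilpotent (RingHom.ker b)
    rw [hk]
    obtain ⟨k, hk⟩ := hn
    exact ⟨k, by rw [← Ideal.map_pow, hk, Ideal.zero_eq_bot, Ideal.map_bot, Ideal.zero_eq_bot]⟩
  let θ : B' →ₐ[P] B := Algebra.FormallySmooth.liftOfSurjective g b' hb hbn
  have hθ : ∀ x, b (θ x) = g x := fun x => Algebra.FormallySmooth.liftOfSurjective_apply g b' hb hbn x
  let _ : Algebra A B := φ.toAlgebra
  let _ : Algebra A B' := ((algebraMap P B').comp MvPolynomial.C).toAlgebra
  have hflat : Module.Flat A B := hφ
  let θ' : B' →ₗ[A] B :=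
    { toFun := θ
      map_add' := map_add θ
      map_smul' := fun r x => by
        have h1 : r • x = (MvPolynomial.C r : P) • x := by
          rw [Algebra.smul_def, Algebra.smul_def]
          rfl
        have h2 : ∀ y : B, (MvPolynomial.C r : P) • y = r • y := by
          intro y
          rw [Algebra.smul_def, Algebra.smul_def]
          change MvPolynomial.eval₂Hom φ v (MvPolynomial.C r) * y = φ r * y
          simp
        rw [h1, map_smul, RingHom.id_apply, h2] }
  have hbij : Function.Bijective θ' := by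
    refine Groth.Agent.Sga3A.LiftGL.bijective_of_nilpotent (I := RingHom.ker a) hn θ' ?_ ?_
    · intro y
      obtain ⟨t, ht⟩ := ε.surjective (b y)
      have hsurj : ∀ t : P₀ ⊗[P] B', ∃ x : B', (1 : P₀) ⊗ₜ[P] x = t := by
        intro t
        induction t with
        | zero => exact ⟨0, by simp⟩
        | tmul s x =>
          obtain ⟨r, rfl⟩ := hPs s
          refine ⟨r • x, ?_⟩
          rw [TensorProduct.tmul_smul, TensorProduct.smul_tmul', Algebra.smul_def, mul_one]
        | add s t hs ht =>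
          obtain ⟨x, rfl⟩ := hs
          obtain ⟨y, rfl⟩ := ht
          exact ⟨x + y, TensorProduct.tmul_add _ _ _⟩
      obtain ⟨x, rfl⟩ := hsurj t
      refine ⟨x, ?_⟩
      have h1 : y - θ' x ∈ RingHom.ker b := by
        rw [RingHom.mem_ker, map_sub, sub_eq_zero]
        exact ht.symm.trans (hθ x).symm
      rw [hk] at h1
      rw [Ideal.smul_top_eq_map]
      exact h1
    · intro x hx
      rw [Ideal.smul_top_eq_map] at hx
      have h1 : θ' x ∈ RingHom.ker b := by
        rw [hk]
        exact hx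
      have h2 : g x = 0 := (hθ x).symm.trans h1
      rw [hg, map_eq_zero_iff _ ε.injective,
        Groth.Agent.Sga3A.LiftGL.one_tmul_eq_zero_iff hPs] at h2
      rw [Ideal.smul_top_eq_map] at h2 ⊢
      have h3 : RingHom.ker (algebraMap P P₀) = (RingHom.ker a).map MvPolynomial.C :=
        MvPolynomial.ker_map a
      rw [h3, Ideal.map_map] at h2
      exact h2
  have e : B' ≃ₐ[P] B := AlgEquiv.ofBijective θ hbij
  exact Algebra.Etale.of_equiv e

end Etale

section Flat

variable {A B : Type u} [CommRing A] [CommRing B]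

/-- If `B/J` is flat over `A` then `J` is generated by any part which generates it modulo a nilpotent ideal of `A`. -/
theorem ideal_eq_of_flat (φ : A →+* B) (I : Ideal A) (hI : IsNilpotent I) (J J' : Ideal B)
    (hf : ((Ideal.Quotient.mk J).comp φ).Flat) (h : J' ≤ J) (h2 : J ≤ J' ⊔ I.map φ) : J = J' := by
  let _ : Algebra A B := φ.toAlgebra
  have hfl : Module.Flat A (B ⧸ J) := hf
  refine le_antisymm ?_ h
  let q : B →ₗ[A] (B ⧸ J) := (Ideal.Quotient.mkₐ A J).toLinearMap
  have h3 := LinearMap.ker_inf_smul_top_eq_smul_of_flat I q Ideal.Quotient.mk_surjective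
  have h4 : LinearMap.ker q = J.restrictScalars A := by
    ext x
    exact Ideal.Quotient.eq_zero_iff_mem
  rw [h4, Ideal.smul_top_eq_map] at h3
  have h5 : J.restrictScalars A ≤ J'.restrictScalars A ⊔ I • J.restrictScalars A := by
    intro x hx
    obtain ⟨y, hy, z, hz, rfl⟩ := Submodule.mem_sup.1 (h2 hx)
    refine Submodule.add_mem_sup hy ?_
    rw [← h3]
    refine ⟨?_, hz⟩
    have := J.sub_mem hx (h hy)
    simpa using this
  exact fun x hx => le_of_le_sup_smul hI h5 hx

/-- If `B/J` is flat over `A` then `J ∩ IB = IJ`. -/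
theorem inf_map_le_of_flat (φ : A →+* B) (I : Ideal A) (J : Ideal B)
    (hf : ((Ideal.Quotient.mk J).comp φ).Flat) : J ⊓ I.map φ ≤ I.map φ * J := by
  let _ : Algebra A B := φ.toAlgebra
  have hfl : Module.Flat A (B ⧸ J) := hf
  let q : B →ₗ[A] (B ⧸ J) := (Ideal.Quotient.mkₐ A J).toLinearMap
  have h3 := LinearMap.ker_inf_smul_top_eq_smul_of_flat I q Ideal.Quotient.mk_surjective
  have h4 : LinearMap.ker q = J.restrictScalars A := by
    ext x
    exact Ideal.Quotient.eq_zero_iff_mem
  rw [h4, Ideal.smul_top_eq_map] at h3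
  rintro x ⟨hx1, hx2⟩
  have h5 : x ∈ I • J.restrictScalars A := by
    rw [← h3]
    exact ⟨hx1, hx2⟩
  refine Submodule.smul_induction_on h5 ?_ fun _ _ => Ideal.add_mem _
  intro r hr y hy
  have h6 : r • y = φ r * y := rfl
  rw [h6]
  exact Ideal.mul_mem_mul (Ideal.mem_map_of_mem _ hr) hy

end Flat

section Gen

variable {B B₀ : Type u} [CommRing B] [CommRing B₀]

theorem isUnit_of_map {π : B →+* B₀} (hπ : Function.Surjective π) (hn : IsNilpotent (RingHom.ker π)) {x : B}
    (hx : IsUnit (π x)) : IsUnit x := by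
  obtain ⟨y, hy⟩ := hx.exists_right_inv
  obtain ⟨z, rfl⟩ := hπ y
  obtain ⟨k, hk⟩ := hn
  have h1 : IsNilpotent (x * z - 1) := by
    refine ⟨k, ?_⟩
    have h2 : x * z - 1 ∈ RingHom.ker π := by
      rw [RingHom.mem_ker, map_sub, map_mul, hy, map_one, sub_self]
    have h3 := Ideal.pow_mem_pow h2 k
    rwa [hk] at h3
  have h2 := h1.isUnit_add_one
  rw [sub_add_cancel] at h2
  exact isUnit_of_mul_isUnit_left h2

/-- Generators of principal ideals lift. -/
theorem exists_lift_generator {π : B →+* B₀} (hπ : Function.Surjective π)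
    (hn : IsNilpotent (RingHom.ker π)) (ε : B) (z₀ : B₀) (hz : Ideal.span {z₀} = Ideal.span {π ε})
    (hnz : z₀ ∈ nonZeroDivisors B₀) :
    ∃ z : B, π z = z₀ ∧ Ideal.span {z} = Ideal.span {ε} := by
  obtain ⟨w, hw⟩ := Ideal.mem_span_singleton'.1
    (hz ▸ Ideal.mem_span_singleton_self z₀ : z₀ ∈ Ideal.span {π ε})
  obtain ⟨w', hw'⟩ := Ideal.mem_span_singleton'.1
    (hz.symm ▸ Ideal.mem_span_singleton_self (π ε) : π ε ∈ Ideal.span {z₀})
  have h1 : w * w' = 1 := by
    have h2 : (w * w' - 1) * z₀ = 0 := by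
      rw [sub_mul, one_mul, mul_assoc, hw', hw, sub_self]
    have h3 := (mem_nonZeroDivisors_iff_right.1 hnz) _ h2
    exact sub_eq_zero.1 h3
  obtain ⟨v, rfl⟩ := hπ w
  have hv : IsUnit v := isUnit_of_map hπ hn (IsUnit.of_mul_eq_one w' h1)
  refine ⟨v * ε, by rw [map_mul, hw], ?_⟩
  exact Ideal.span_singleton_mul_left_unit hv ε

/-- Nonzerodivisors modulo `p` are nonzerodivisors if `p² = 0` and `Ann p = (p)`. -/
theorem mem_nonZeroDivisors_of_mod {π : B →+* B₀} {p : B} (hpp : p * p = 0)
    (hp : ∀ b, p * b = 0 → π b = 0) (hk : RingHom.ker π = Ideal.span {p}) (t : B)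
    (ht : π t ∈ nonZeroDivisors B₀) : t ∈ nonZeroDivisors B := by
  rw [mem_nonZeroDivisors_iff_right] at ht ⊢
  intro b hb
  have h1 : π b = 0 := ht _ (by rw [← map_mul, hb, map_zero])
  obtain ⟨c, rfl⟩ := Ideal.mem_span_singleton'.1 (hk ▸ (RingHom.mem_ker (f := π)).2 h1 : b ∈ Ideal.span {p})
  have h2 : π (c * t) = 0 := hp _ (by rw [← hb]; ring)
  have h3 : π c = 0 := ht _ (by rw [← map_mul, h2])
  obtain ⟨e, rfl⟩ := Ideal.mem_span_singleton'.1 (hk ▸ (RingHom.mem_ker (f := π)).2 h3 : c ∈ Ideal.span {p})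
  rw [mul_assoc, hpp, mul_zero]

/-- The ideal generated by an element whose reduction is a nonzerodivisor meets `(p)` in `p` times itself. -/
theorem exists_of_mul_mem {π : B →+* B₀} {p : B} (hk : RingHom.ker π = Ideal.span {p}) (t : B)
    (ht : π t ∈ nonZeroDivisors B₀) (x : B) (hx : x ∈ Ideal.span {t}) (hx' : π x = 0) :
    ∃ c ∈ Ideal.span {t}, x = p * c := by
  obtain ⟨c, rfl⟩ := Ideal.mem_span_singleton'.1 hx
  rw [map_mul] at hx'
  have h1 := (mem_nonZeroDivisors_iff_right.1 ht) _ hx'
  obtain ⟨e, rfl⟩ := Ideal.mem_span_singleton'.1 (hk ▸ (RingHom.mem_ker (f := π)).2 h1 : c ∈ Ideal.span {p})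
  exact ⟨e * t, Ideal.mul_mem_left _ _ (Ideal.mem_span_singleton_self t), by ring⟩

end Gen

end K235.Alg
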