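import Groth.Agent.Divis.EffCartier
import Groth.Agent.Flat2C.AffineThickening
import Groth.Agent.FlatMor.K262.NilFT
import Groth.Agent.Lift.K235.Alg

/-!
# Reduction modulo `p` of a scheme flat over `Z/p²`

`IsRed p j` : `j : X ⟶ Xl` is the closed immersion with ideal `(p)`, `p² = 0` on `Xl` and `Ann p = (p)`.
-/

set_option autoImplicit false
universe u

open CategoryTheory CategoryTheory.Limits AlgebraicGeometry TopologicalSpace

namespace K235.Thick

variable {X Y Z S : Scheme.{u}}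

/-- A closed immersion whose ideal has square zero is surjective. -/
theorem surjective_of_sq (j : X ⟶ Y) [IsClosedImmersion j] (h : j.ker * j.ker = ⊥) : Surjective j := by
  have h1 : j.ker.support = ⊤ := by
    have h2 := congrArg Scheme.IdealSheafData.support h
    rw [Scheme.IdealSheafData.support_mul, sup_idem, Scheme.IdealSheafData.support_bot] at h2
    exact h2
  refine ⟨fun y => ?_⟩
  have h3 : y ∈ (j.ker.support : Set Y) := by rw [h1]; trivial
  rw [Scheme.Hom.support_ker, j.isClosedEmbedding.isClosed_range.closure_eq] at h3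
  exact h3

/-- Affine opens lift along thickenings. -/
theorem exists_affineOpen (j : X ⟶ Y) [IsClosedImmersion j] [Surjective j] (U : X.affineOpens) :
    ∃ V : Y.affineOpens, j ⁻¹ᵁ V.1 = U.1 := by
  let e : X ≃ₜ Y := j.isClosedEmbedding.isEmbedding.toHomeomorphOfSurjective j.surjective
  let V : Y.Opens := ⟨e '' (U.1 : Set X), e.isOpenMap _ U.1.2⟩
  have hV : j ⁻¹ᵁ V = U.1 := by
    ext x
    change e x ∈ e '' (U.1 : Set X) ↔ x ∈ U.1
    exact e.injective.mem_set_image
  have h1 : IsAffine (j ⁻¹ᵁ V) := by rw [hV]; exact U.2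
  have h2 : Surjective (j ∣_ V) := IsZariskiLocalAtTarget.restrict ‹_› V
  have h3 : IsAffine V := Groth.Agent.Flat2C.AffineThickening.isAffine_of_thickening (j ∣_ V)
  exact ⟨⟨V, h3⟩, hV⟩

/-- The preimage of an affine open, as an affine open. -/
def pre (j : X ⟶ Y) [IsAffineHom j] (V : Y.affineOpens) : X.affineOpens := ⟨j ⁻¹ᵁ V.1, V.2.preimage j⟩

/-- Reduction modulo `p` of a scheme on which `p² = 0` and `Ann p = (p)`. -/
structure IsRed (p : ℕ) (j : X ⟶ Y) : Prop where
  closed : IsClosedImmersion j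
  ker : ∀ W : Y.affineOpens, j.ker.ideal W = Ideal.span {(p : Γ(Y, W.1))}
  sq : ∀ W : Y.affineOpens, (p : Γ(Y, W.1)) * (p : Γ(Y, W.1)) = 0
  ann : ∀ (W : Y.affineOpens) (b : Γ(Y, W.1)), (p : Γ(Y, W.1)) * b = 0 → b ∈ Ideal.span {(p : Γ(Y, W.1))}

namespace IsRed

variable {p : ℕ} {j : X ⟶ Y}

theorem ker_mul (h : IsRed p j) : j.ker * j.ker = ⊥ := by
  refine Groth.Agent.Divis.IdealComap.ext_of_forall_mem fun x => ?_
  obtain ⟨W, hW, hx, -⟩ := exists_isAffineOpen_mem_and_subset (X := Y) (x := x) (U := ⊤) trivial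
  refine ⟨⟨W, hW⟩, hx, ?_⟩
  rw [Scheme.IdealSheafData.ideal_mul, Pi.mul_apply, h.ker ⟨W, hW⟩, Ideal.span_singleton_mul_span_singleton,
    h.sq ⟨W, hW⟩, Scheme.IdealSheafData.ideal_bot, Pi.bot_apply]
  exact Ideal.span_singleton_eq_bot.2 rfl

theorem surjective (h : IsRed p j) : Surjective j := by
  have := h.closed
  exact surjective_of_sq j h.ker_mul

theorem ker_app (h : IsRed p j) (W : Y.affineOpens) : RingHom.ker (j.app W.1).hom = Ideal.span {(p : Γ(Y, W.1))} := by
  have := h.closed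
  rw [← h.ker W, Scheme.Hom.ker_apply]

theorem isNilpotent (h : IsRed p j) (W : Y.affineOpens) : IsNilpotent (RingHom.ker (j.app W.1).hom) := by
  refine ⟨2, ?_⟩
  rw [h.ker_app W, pow_two, Ideal.span_singleton_mul_span_singleton, h.sq W]
  exact Ideal.span_singleton_eq_bot.2 rfl

theorem ann' (h : IsRed p j) (W : Y.affineOpens) (b : Γ(Y, W.1)) (hb : (p : Γ(Y, W.1)) * b = 0) :
    (j.app W.1).hom b = 0 := by
  rw [← RingHom.mem_ker, h.ker_app W]
  exact h.ann W b hb

end IsRed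

section Zp

variable (p : ℕ) [Fact p.Prime]

/-- The reduction `Z/p² → F_p`. -/
noncomputable abbrev red : ULift.{u} (ZMod (p ^ 2)) →+* ULift.{u} (ZMod p) :=
  (ZMod.castHom (dvd_pow_self p two_ne_zero) (ULift.{u} (ZMod p))).comp
    (ULift.ringEquiv : ULift.{u} (ZMod (p ^ 2)) ≃+* ZMod (p ^ 2)).toRingHom

theorem red_surjective : Function.Surjective (red.{u} p) := by
  intro x
  obtain ⟨n, hn⟩ := ZMod.natCast_zmod_surjective x.down
  refine ⟨(n : ULift.{u} (ZMod (p ^ 2))), ?_⟩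
  rw [map_natCast]
  apply ULift.down_injective
  rw [ULift.down_natCast]
  exact hn

theorem red_eq_zero_iff (x : ULift.{u} (ZMod (p ^ 2))) :
    red.{u} p x = 0 ↔ ∃ y, x = y * (p : ULift.{u} (ZMod (p ^ 2))) := by
  constructor
  · intro h
    obtain ⟨n, hn⟩ := ZMod.natCast_zmod_surjective x.down
    have hx : x = (n : ULift.{u} (ZMod (p ^ 2))) := by
      apply ULift.down_injective
      rw [ULift.down_natCast]
      exact hn.symm
    rw [hx, map_natCast] at h
    have h1 : ((n : ZMod p)) = 0 := by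
      have := congrArg ULift.down h
      rwa [ULift.down_natCast] at this
    rw [ZMod.natCast_eq_zero_iff] at h1
    obtain ⟨m, rfl⟩ := h1
    exact ⟨m, by rw [hx]; push_cast; ring⟩
  · rintro ⟨y, rfl⟩
    rw [map_mul, map_natCast]
    have h1 : (p : ULift.{u} (ZMod p)) = 0 := by
      apply ULift.down_injective
      rw [ULift.down_natCast]
      exact ZMod.natCast_self p
    rw [h1, mul_zero]

omit [Fact p.Prime] in
theorem sq_eq_zero : (p : ULift.{u} (ZMod (p ^ 2))) * p = 0 := by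
  apply ULift.down_injective
  have h1 : ((p * p : ℕ) : ZMod (p ^ 2)) = 0 := by
    rw [← pow_two]
    exact ZMod.natCast_self _
  rw [← Nat.cast_mul, ULift.down_natCast, h1]
  rfl

theorem eq_of_mul_eq_zero (x : ULift.{u} (ZMod (p ^ 2))) (h : (p : ULift.{u} (ZMod (p ^ 2))) * x = 0) :
    ∃ y, x = p * y := by
  obtain ⟨n, hn⟩ := ZMod.natCast_zmod_surjective x.down
  have hx : x = (n : ULift.{u} (ZMod (p ^ 2))) := by
    apply ULift.down_injective
    rw [ULift.down_natCast]
    exact hn.symm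
  rw [hx, ← Nat.cast_mul] at h
  have h1 := congrArg ULift.down h
  rw [ULift.down_natCast] at h1
  have h2 : ((p * n : ℕ) : ZMod (p ^ 2)) = 0 := h1
  rw [ZMod.natCast_eq_zero_iff, pow_two] at h2
  obtain ⟨m, rfl⟩ := (Nat.mul_dvd_mul_iff_left (Fact.out : p.Prime).pos).1 h2
  exact ⟨m, by rw [hx]; push_cast; ring⟩

/-- In a flat `Z/p²`-algebra the annihilator of `p` is `(p)`. -/
theorem ann_of_flat {B : Type u} [CommRing B] (φ : ULift.{u} (ZMod (p ^ 2)) →+* B) (hφ : φ.Flat) (b : B)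
    (hb : (p : B) * b = 0) : b ∈ Ideal.span {(p : B)} := by
  let Λ := ULift.{u} (ZMod (p ^ 2))
  let _ : Algebra Λ B := φ.toAlgebra
  have hfl : Module.Flat Λ B := hφ
  let m : Λ →ₗ[Λ] Λ := LinearMap.lsmul Λ Λ (p : Λ)
  have hex : Function.Exact m m := by
    intro x
    constructor
    · intro hx
      obtain ⟨y, rfl⟩ := eq_of_mul_eq_zero p x hx
      exact ⟨y, rfl⟩
    · rintro ⟨y, rfl⟩
      change (p : Λ) * ((p : Λ) * y) = 0
      rw [← mul_assoc, sq_eq_zero, zero_mul]
  have h1 := Module.Flat.lTensor_exact B hex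
  have key : ∀ c : B, (m.lTensor B) (c ⊗ₜ[Λ] (1 : Λ)) = (p * c) ⊗ₜ[Λ] (1 : Λ) := by
    intro c
    rw [LinearMap.lTensor_tmul]
    change c ⊗ₜ[Λ] ((p : Λ) • (1 : Λ)) = _
    rw [TensorProduct.tmul_smul, TensorProduct.smul_tmul', Algebra.smul_def, map_natCast]
  have h2 : (m.lTensor B) (b ⊗ₜ[Λ] (1 : Λ)) = 0 := by
    rw [key, hb, TensorProduct.zero_tmul]
  obtain ⟨t, ht⟩ := (h1 _).1 h2
  obtain ⟨c, rfl⟩ : ∃ c : B, t = c ⊗ₜ[Λ] (1 : Λ) :=
    ⟨TensorProduct.rid Λ B t, ((TensorProduct.rid Λ B).symm_apply_apply t).symm⟩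
  rw [key] at ht
  have h3 := congrArg (TensorProduct.rid Λ B) ht
  rw [TensorProduct.rid_tmul, TensorProduct.rid_tmul, one_smul, one_smul] at h3
  rw [← h3]
  exact Ideal.mem_span_singleton'.2 ⟨c, mul_comm _ _⟩

/-- The base case: a scheme flat over `Z/p²` and its reduction. -/
theorem isRed_of_isPullback {X Xl : Scheme.{u}} (g : Xl ⟶ Spec (CommRingCat.of (ULift.{u} (ZMod (p ^ 2))))) [Flat g]
    (j : X ⟶ Xl) (f : X ⟶ Spec (CommRingCat.of (ULift.{u} (ZMod p))))
    (h : IsPullback j f g (Spec.map (CommRingCat.ofHom (red.{u} p)))) : IsRed p j := by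
  have hi : IsClosedImmersion (Spec.map (CommRingCat.ofHom (red.{u} p))) :=
    IsClosedImmersion.spec_of_surjective _ (red_surjective p)
  have hj : IsClosedImmersion j := MorphismProperty.of_isPullback (P := @IsClosedImmersion) h.flip hi
  have hker := K262.NilFT.ker_eq_comap_of_isPullback h.flip
  let P : CommRingCat.{u} := CommRingCat.of (ULift.{u} (ZMod (p ^ 2)))
  have hnat : ∀ W : Xl.affineOpens, ∀ n : ℕ,
      (g.appLE ⊤ W.1 le_top).hom ((Scheme.ΓSpecIso P).inv.hom (n : ULift.{u} (ZMod (p ^ 2)))) = (n : Γ(Xl, W.1)) := by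
    intro W n
    rw [map_natCast, map_natCast]
  refine ⟨hj, fun W => ?_, fun W => ?_, fun W b hb => ?_⟩
  · rw [hker, Groth.Agent.Divis.IdealComap.ideal_comap _ g ⟨⊤, isAffineOpen_top _⟩ W le_top,
      Scheme.Hom.ker_apply]
    have h1 : RingHom.ker ((Spec.map (CommRingCat.ofHom (red.{u} p))).app ⊤).hom =
        Ideal.span {(p : Γ(Spec P, ⊤))} := by
      ext x
      rw [RingHom.mem_ker, Ideal.mem_span_singleton']
      let e := (Scheme.ΓSpecIso P).commRingCatIsoToRingEquiv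
      let e' := (Scheme.ΓSpecIso (CommRingCat.of (ULift.{u} (ZMod p)))).commRingCatIsoToRingEquiv
      have h2 : e' (((Spec.map (CommRingCat.ofHom (red.{u} p))).app ⊤).hom x) = red.{u} p (e x) :=
        congrArg (fun f => f.hom x) (Scheme.ΓSpecIso_naturality (CommRingCat.ofHom (red.{u} p)))
      refine (map_eq_zero_iff e' e'.injective).symm.trans ?_
      rw [h2, red_eq_zero_iff]
      constructor
      · rintro ⟨y, hy⟩
        refine ⟨e.symm y, e.injective ?_⟩
        rw [map_mul, map_natCast, e.apply_symm_apply, hy]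
      · rintro ⟨y, rfl⟩
        exact ⟨e y, by rw [map_mul, map_natCast]⟩
    have h5 : ((⟨⊤, isAffineOpen_top _⟩ : (Spec P).affineOpens).1) = ⊤ := rfl
    rw [h1, Ideal.map_span, Set.image_singleton, map_natCast]
  · have h1 : ((p : ULift.{u} (ZMod (p ^ 2))) * p) = 0 := sq_eq_zero p
    have h2 := congrArg (fun x => (g.appLE ⊤ W.1 le_top).hom ((Scheme.ΓSpecIso P).inv.hom x)) h1
    simp only [map_mul, map_natCast, map_zero] at h2
    exact h2
  · have h1 : ((g.appLE ⊤ W.1 le_top).hom.comp (Scheme.ΓSpecIso P).inv.hom).Flat := by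
      have h2 : (g.appLE ⊤ W.1 le_top).hom.Flat :=
        HasRingHomProperty.appLE (P := @Flat) g ‹_› ⟨⊤, isAffineOpen_top _⟩ W le_top
      exact RingHom.Flat.respectsIso.2 _ (Scheme.ΓSpecIso P).symm.commRingCatIsoToRingEquiv h2
    exact ann_of_flat p _ h1 b hb

end Zp

end K235.Thick
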