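import Groth.Agent.LogNCD.K922.Chart
import Groth.Agent.Vanish.K27.Strata
import Groth.Agent.Deform.K680.FlatIdeal
import Groth.Agent.Lift.K235.Thick

/-!
# Ring-level charts of a family of divisors, and their lifting along nilpotent thickenings

`LChart g D V W` : étale coordinates on the affine open `W` of `Y` over the affine open `V` of `T`, each `D i` being cut out
by a coordinate (distinct ones for distinct `i`) or empty on `W`.  `HasCharts g D`: there are arbitrarily small charts.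

* `hasCharts_of_isNCD` : normal crossing divisors have charts;
* `hasCharts_lift` : charts lift to flat liftings along nilpotent thickenings, if generators of the ideals do (`LiftGen`);
* `liftGen_of_flat`, `liftGen_of_principal`.
-/

set_option autoImplicit false
universe u

open CategoryTheory CategoryTheory.Limits AlgebraicGeometry TopologicalSpace

namespace K235.Chart

open K235.Thick K235.Alg Groth.Agent.Divis.IdealComap

variable {X S Y T : Scheme.{u}} {r : ℕ}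

/-- A chart of the family `D` on affine opens. -/
structure LChart (g : Y ⟶ T) (D : Fin r → Y.IdealSheafData) (V : T.affineOpens) (W : Y.affineOpens) where
  le : W.1 ≤ g ⁻¹ᵁ V.1
  n : ℕ
  v : Fin n → Γ(Y, W.1)
  e : Fin r → Option (Fin n)
  inj : ∀ i j k, e i = some k → e j = some k → i = j
  etale : (MvPolynomial.eval₂Hom (g.appLE V.1 W.1 le).hom v).Etale
  ideal_none : ∀ i, e i = none → (D i).ideal W = ⊤
  ideal_some : ∀ i k, e i = some k → (D i).ideal W = Ideal.span {v k}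

/-- The family `D` has arbitrarily small charts. -/
def HasCharts (g : Y ⟶ T) (D : Fin r → Y.IdealSheafData) : Prop :=
  ∀ (y : Y) (O : Y.Opens), y ∈ O →
    ∃ (V : T.affineOpens) (W : Y.affineOpens), y ∈ W.1 ∧ W.1 ≤ O ∧ Nonempty (LChart g D V W)

/-- A chart for a subfamily. -/
def LChart.reindex {g : Y ⟶ T} {D : Fin r → Y.IdealSheafData} {V : T.affineOpens} {W : Y.affineOpens}
    (c : LChart g D V W) {s : ℕ} (σ : Fin s → Fin r) (hσ : Function.Injective σ) :
    LChart g (fun i => D (σ i)) V W where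
  le := c.le
  n := c.n
  v := c.v
  e i := c.e (σ i)
  inj _ _ k hi hj := hσ (c.inj _ _ k hi hj)
  etale := c.etale
  ideal_none i := c.ideal_none (σ i)
  ideal_some i := c.ideal_some (σ i)

theorem HasCharts.reindex {g : Y ⟶ T} {D : Fin r → Y.IdealSheafData} (h : HasCharts g D) {s : ℕ}
    (σ : Fin s → Fin r) (hσ : Function.Injective σ) : HasCharts g (fun i => D (σ i)) := by
  intro y O hy
  obtain ⟨V, W, hyW, hWO, ⟨c⟩⟩ := h y O hy
  exact ⟨V, W, hyW, hWO, ⟨c.reindex σ hσ⟩⟩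

/-- Normal crossing divisors have charts. -/
theorem hasCharts_of_isNCD (f : X ⟶ S) [Smooth f] {D : Fin r → X.IdealSheafData} (hD : LogNCD.IsNCD D f) :
    HasCharts f D := by
  intro x O hx
  obtain ⟨U, n, c, hxU, hUO⟩ := K922.Chart.exists_chart hD hx
  obtain ⟨W, hWU, V, e, -, hxW, het⟩ := c.coord x U.1 le_rfl hxU
  refine ⟨V, W, hxW, hWU.trans hUO, ⟨⟨e, n, _, c.e, c.inj, het, fun i hi => ?_, fun i k hi => ?_⟩⟩⟩
  · rw [c.ideal i W hWU, c.g_none i hi, map_one, Ideal.span_singleton_one]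
  · rw [c.ideal i W hWU, c.g_some i k hi]

/-- The coordinates of a chart are nonzerodivisors. -/
theorem LChart.mem_nonZeroDivisors {g : Y ⟶ T} {D : Fin r → Y.IdealSheafData} {V : T.affineOpens}
    {W : Y.affineOpens} (c : LChart g D V W) (k : Fin c.n) : c.v k ∈ nonZeroDivisors Γ(Y, W.1) := by
  have h2 : (MvPolynomial.eval₂Hom (g.appLE V.1 W.1 c.le).hom c.v).Flat := by
    let _ := (MvPolynomial.eval₂Hom (g.appLE V.1 W.1 c.le).hom c.v).toAlgebra
    have : Algebra.Etale (MvPolynomial (Fin c.n) Γ(T, V.1)) Γ(Y, W.1) := c.etale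
    exact (inferInstance : Module.Flat (MvPolynomial (Fin c.n) Γ(T, V.1)) Γ(Y, W.1))
  have h3 := Groth.Agent.Divis.EffCartier.map_mem_nonZeroDivisors_of_flat _ h2 (a := MvPolynomial.X k) (by
    rw [mem_nonZeroDivisors_iff_right]
    intro p hp
    exact (MvPolynomial.X_mul_cancel_right_iff (i := k)).1 (hp.trans (zero_mul _).symm))
  rw [MvPolynomial.eval₂Hom_X'] at h3
  exact h3

/-- The ring map of a chart is smooth. -/
theorem LChart.smooth {g : Y ⟶ T} {D : Fin r → Y.IdealSheafData} {V : T.affineOpens}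
    {W : Y.affineOpens} (c : LChart g D V W) : (g.appLE V.1 W.1 c.le).hom.Smooth := by
  let P := MvPolynomial (Fin c.n) Γ(T, V.1)
  let _ : Algebra P Γ(Y, W.1) := (MvPolynomial.eval₂Hom (g.appLE V.1 W.1 c.le).hom c.v).toAlgebra
  have hP : Algebra.Etale P Γ(Y, W.1) := c.etale
  let _ : Algebra Γ(T, V.1) Γ(Y, W.1) := (g.appLE V.1 W.1 c.le).hom.toAlgebra
  have : IsScalarTower Γ(T, V.1) P Γ(Y, W.1) := IsScalarTower.of_algebraMap_eq fun a => by
    change _ = MvPolynomial.eval₂Hom (g.appLE V.1 W.1 c.le).hom c.v (MvPolynomial.C a)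
    simp only [MvPolynomial.coe_eval₂Hom, MvPolynomial.eval₂_C]
    rfl
  have hP' : Algebra.Smooth Γ(T, V.1) P := ⟨inferInstance, inferInstance⟩
  exact Algebra.Smooth.comp Γ(T, V.1) P Γ(Y, W.1)

theorem HasCharts.smooth {g : Y ⟶ T} {D : Fin r → Y.IdealSheafData} (h : HasCharts g D) : Smooth g := by
  rw [HasRingHomProperty.iff_exists_appLE (P := @Smooth)
    (RingHom.Smooth.stableUnderComposition.stableUnderCompositionWithLocalizationAway
      RingHom.Smooth.holdsForLocalizationAway).1]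
  intro y
  obtain ⟨V, W, hyW, -, ⟨c⟩⟩ := h y ⊤ trivial
  exact ⟨V, W, hyW, c.le, c.smooth⟩

/-- The quotient of a chart by the ideal of a member of the family is smooth. -/
theorem LChart.smooth_quotient {g : Y ⟶ T} {D : Fin r → Y.IdealSheafData} {V : T.affineOpens}
    {W : Y.affineOpens} (c : LChart g D V W) (i : Fin r) :
    ((Ideal.Quotient.mk ((D i).ideal W)).comp (g.appLE V.1 W.1 c.le).hom).Smooth := by
  let _ : Algebra Γ(T, V.1) Γ(Y, W.1) := (g.appLE V.1 W.1 c.le).hom.toAlgebra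
  let gg : Fin r → Γ(Y, W.1) := fun i => match c.e i with
    | none => 1
    | some k => c.v k
  have h1 := K27.Strata.smooth_chart Γ(T, V.1) Γ(Y, W.1) c.v c.etale c.e gg
    (fun i hi => by simp only [gg, hi]) (fun i k hi => by simp only [gg, hi]) {i}
  have h2 : (D i).ideal W = Ideal.span (Set.range fun j : ({i} : Set (Fin r)) => gg j.1) := by
    have h3 : (Set.range fun j : ({i} : Set (Fin r)) => gg j.1) = {gg i} := by
      ext b
      constructor
      · rintro ⟨⟨j, rfl⟩, rfl⟩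
        rfl
      · rintro rfl
        exact ⟨⟨i, rfl⟩, rfl⟩
    rw [h3]
    rcases hi : c.e i with _ | k
    · rw [c.ideal_none i hi]
      simp only [gg, hi]
      exact Ideal.span_singleton_one.symm
    · rw [c.ideal_some i k hi]
      simp only [gg, hi]
  rw [← h2, ← RingHom.smooth_algebraMap] at h1
  exact h1

/-- The members of a family with charts are smooth. -/
theorem HasCharts.smooth_subscheme {g : Y ⟶ T} {D : Fin r → Y.IdealSheafData} (h : HasCharts g D) (i : Fin r) :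
    Smooth ((D i).subschemeι ≫ g) := by
  apply K27.Strata.smooth_subscheme
  intro y _
  obtain ⟨V, W, hyW, -, ⟨c⟩⟩ := h y ⊤ trivial
  exact ⟨W, V, c.le, hyW, c.smooth_quotient i⟩

/-- Generators of the ideal `I₀` of `X` lift to generators of the ideal `I` of the thickening, locally. -/
def LiftGen (j : X ⟶ Y) [IsAffineHom j] (I₀ : X.IdealSheafData) (I : Y.IdealSheafData) : Prop :=
  ∀ y : Y, ∃ U : Y.Opens, y ∈ U ∧ ∀ W : Y.affineOpens, W.1 ≤ U → ∀ z₀ ∈ nonZeroDivisors Γ(X, j ⁻¹ᵁ W.1),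
    I₀.ideal (pre j W) = Ideal.span {z₀} → ∃ z : Γ(Y, W.1), (j.app W.1).hom z = z₀ ∧ I.ideal W = Ideal.span {z}

section Lift

variable {f : X ⟶ S} {g : Y ⟶ T} {j : X ⟶ Y} {i₀ : S ⟶ T}

theorem ker_app_eq [IsClosedImmersion i₀] [IsClosedImmersion j] (hX : IsPullback j f g i₀) (V : T.affineOpens)
    (W : Y.affineOpens) (le : W.1 ≤ g ⁻¹ᵁ V.1) :
    RingHom.ker (j.app W.1).hom = (RingHom.ker (i₀.app V.1).hom).map (g.appLE V.1 W.1 le).hom := by
  rw [← Scheme.Hom.ker_apply j W, ← Scheme.Hom.ker_apply i₀ V, K262.NilFT.ker_eq_comap_of_isPullback hX.flip,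
    ideal_comap _ g V W le]

theorem le_of_pre_le [Surjective j] (w : j ≫ g = f ≫ i₀) {V : T.Opens}
    {W : Y.Opens} (h : j ⁻¹ᵁ W ≤ f ⁻¹ᵁ (i₀ ⁻¹ᵁ V)) : W ≤ g ⁻¹ᵁ V := by
  intro y hy
  obtain ⟨x, rfl⟩ := j.surjective y
  have h1 : x ∈ f ⁻¹ᵁ (i₀ ⁻¹ᵁ V) := h hy
  change (j ≫ g) x ∈ V
  rw [w]
  exact h1

theorem comp_app_eq (w : j ≫ g = f ≫ i₀) (V : T.Opens) (W : Y.Opens) (le : W ≤ g ⁻¹ᵁ V)
    (le' : j ⁻¹ᵁ W ≤ f ⁻¹ᵁ (i₀ ⁻¹ᵁ V)) :
    (f.appLE (i₀ ⁻¹ᵁ V) (j ⁻¹ᵁ W) le').hom.comp (i₀.app V).hom = (j.app W).hom.comp (g.appLE V W le).hom := by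
  have h1 : i₀.app V ≫ f.appLE (i₀ ⁻¹ᵁ V) (j ⁻¹ᵁ W) le' = g.appLE V W le ≫ j.app W := by
    rw [Scheme.Hom.app_eq_appLE, Scheme.Hom.app_eq_appLE, Scheme.Hom.appLE_comp_appLE, Scheme.Hom.appLE_comp_appLE]
    congr 1
    exact w.symm
  exact congrArg CommRingCat.Hom.hom h1

/-- Charts lift. -/
theorem LChart.lift [IsClosedImmersion i₀] [IsClosedImmersion j] [Surjective j] (hX : IsPullback j f g i₀) [Flat g]
    (V : T.affineOpens) (W : Y.affineOpens) (hn : IsNilpotent (RingHom.ker (i₀.app V.1).hom))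
    {D : Fin r → X.IdealSheafData} {Dl : Fin r → Y.IdealSheafData}
    (c : LChart f D (pre i₀ V) (pre j W))
    (hgen : ∀ i k, c.e i = some k → ∃ z : Γ(Y, W.1), (j.app W.1).hom z = c.v k ∧ (Dl i).ideal W = Ideal.span {z})
    (htop : ∀ i, c.e i = none → (Dl i).ideal W = ⊤) : Nonempty (LChart g Dl V W) := by
  classical
  have le : W.1 ≤ g ⁻¹ᵁ V.1 := le_of_pre_le hX.w c.le
  have hsj : Function.Surjective (j.app W.1).hom := Scheme.Hom.app_surjective j W.1 W.2
  have hsi : Function.Surjective (i₀.app V.1).hom := Scheme.Hom.app_surjective i₀ V.1 V.2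
  have h1 : ∀ k : Fin c.n, ∃ z : Γ(Y, W.1), (j.app W.1).hom z = c.v k ∧
      ∀ i, c.e i = some k → (Dl i).ideal W = Ideal.span {z} := by
    intro k
    by_cases hk : ∃ i, c.e i = some k
    · obtain ⟨i, hi⟩ := hk
      obtain ⟨z, hz, hz'⟩ := hgen i k hi
      refine ⟨z, hz, fun i' hi' => ?_⟩
      obtain rfl := c.inj i i' k hi hi'
      exact hz'
    · obtain ⟨z, hz⟩ := hsj (c.v k)
      exact ⟨z, hz, fun i hi => (hk ⟨i, hi⟩).elim⟩
  choose v hv hv' using h1
  have hfl : (g.appLE V.1 W.1 le).hom.Flat := HasRingHomProperty.appLE (P := @Flat) g ‹_› V W le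
  refine ⟨⟨le, c.n, v, c.e, c.inj, ?_, htop, fun i k hi => hv' k i hi⟩⟩
  refine etale_of_nilpotent (i₀.app V.1).hom hsi hn (g.appLE V.1 W.1 le).hom hfl (j.app W.1).hom hsj
    (ker_app_eq hX V W le) (f.appLE (i₀ ⁻¹ᵁ V.1) (j ⁻¹ᵁ W.1) c.le).hom (comp_app_eq hX.w V.1 W.1 le c.le) v ?_
  have h2 : (fun k => (j.app W.1).hom (v k)) = c.v := funext hv
  rw [h2]
  exact c.etale

theorem ideal_eq_top_of_map {A B : Type*} [CommRing A] [CommRing B] {π : A →+* B} (hπ : Function.Surjective π)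
    (hn : IsNilpotent (RingHom.ker π)) (I : Ideal A) (h : I.map π = ⊤) : I = ⊤ := by
  have h1 : (1 : B) ∈ I.map π := h ▸ Submodule.mem_top
  obtain ⟨x, hx, hx'⟩ := (Ideal.mem_map_iff_of_surjective π hπ).1 h1
  refine Ideal.eq_top_of_isUnit_mem I hx ?_
  obtain ⟨k, hk⟩ := hn
  have h2 : IsNilpotent (x - 1) := by
    refine ⟨k, ?_⟩
    have h3 : x - 1 ∈ RingHom.ker π := by rw [RingHom.mem_ker, map_sub, hx', map_one, sub_self]
    have h4 := Ideal.pow_mem_pow h3 k
    rwa [hk] at h4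
  have h5 := h2.isUnit_add_one
  rwa [sub_add_cancel] at h5

theorem ideal_pre_eq [IsAffineHom j] (I : Y.IdealSheafData) (W : Y.affineOpens) :
    (I.comap j).ideal (pre j W) = (I.ideal W).map (j.app W.1).hom := by
  rw [ideal_comap I j W (pre j W) le_rfl, Scheme.Hom.app_eq_appLE]
  rfl

/-- Charts of a lifting. -/
theorem hasCharts_lift [IsClosedImmersion i₀] [Surjective i₀] [IsClosedImmersion j] [Surjective j]
    (hX : IsPullback j f g i₀) [Flat g]
    (hn : ∀ V : T.affineOpens, IsNilpotent (RingHom.ker (i₀.app V.1).hom))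
    {D : Fin r → X.IdealSheafData} {Dl : Fin r → Y.IdealSheafData} (hD : HasCharts f D)
    (hDl : ∀ i, (Dl i).comap j = D i) (hg : ∀ i, LiftGen j (D i) (Dl i)) : HasCharts g Dl := by
  intro y O hy
  obtain ⟨x, rfl⟩ := j.surjective y
  choose U hU hU' using fun i => hg i (j x)
  let O' : Y.Opens := ⟨(O : Set Y) ∩ ⋂ i, (U i : Set Y), O.2.inter (isOpen_iInter_of_finite fun i => (U i).2)⟩
  have hO' : j x ∈ O' := ⟨hy, Set.mem_iInter.2 hU⟩
  obtain ⟨V₀, W₀, hxW₀, hW₀, ⟨c⟩⟩ := hD x (j ⁻¹ᵁ O') hO'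
  obtain ⟨V, hV⟩ := exists_affineOpen i₀ V₀
  obtain ⟨W, hW⟩ := exists_affineOpen j W₀
  obtain rfl : V₀ = pre i₀ V := Subtype.ext hV.symm
  obtain rfl : W₀ = pre j W := Subtype.ext hW.symm
  have hWO' : W.1 ≤ O' := by
    intro y hy
    obtain ⟨x, rfl⟩ := j.surjective y
    exact hW₀ hy
  refine ⟨V, W, hxW₀, fun y hy => (hWO' hy).1, c.lift hX V W (hn V) (fun i k hi => ?_) fun i hi => ?_⟩
  · exact hU' i W (fun y hy => Set.mem_iInter.1 (hWO' hy).2 i) (c.v k) (c.mem_nonZeroDivisors k) (c.ideal_some i k hi)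
  · have h1 := c.ideal_none i hi
    rw [← hDl i, ideal_pre_eq] at h1
    refine ideal_eq_top_of_map (Scheme.Hom.app_surjective j W.1 W.2) ?_ _ h1
    rw [ker_app_eq hX V W (le_of_pre_le hX.w c.le)]
    obtain ⟨k, hk⟩ := hn V
    exact ⟨k, by rw [← Ideal.map_pow, hk, Ideal.zero_eq_bot, Ideal.map_bot, Ideal.zero_eq_bot]⟩

theorem exists_mem_of_map_eq {A B : Type*} [CommRing A] [CommRing B] {π : A →+* B} (hπ : Function.Surjective π)
    (I : Ideal A) (z₀ : B) (h : I.map π = Ideal.span {z₀}) :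
    ∃ z ∈ I, π z = z₀ ∧ I ≤ Ideal.span {z} ⊔ RingHom.ker π := by
  obtain ⟨z, hz, hz'⟩ := (Ideal.mem_map_iff_of_surjective π hπ).1 (h ▸ Ideal.mem_span_singleton_self z₀ : z₀ ∈ I.map π)
  refine ⟨z, hz, hz', fun x hx => ?_⟩
  have h1 : π x ∈ Ideal.span {z₀} := h ▸ Ideal.mem_map_of_mem π hx
  obtain ⟨a, ha⟩ := Ideal.mem_span_singleton'.1 h1
  obtain ⟨b, rfl⟩ := hπ a
  have h2 : x = b * z + (x - b * z) := by ring
  rw [h2]
  refine Submodule.add_mem_sup (Ideal.mul_mem_left _ _ (Ideal.mem_span_singleton_self z)) ?_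
  rw [RingHom.mem_ker, map_sub, map_mul, hz', ha, sub_self]

theorem flat_quotient (g : Y ⟶ T) (I : Y.IdealSheafData) [Flat (I.subschemeι ≫ g)] (V : T.affineOpens)
    (W : Y.affineOpens) (le : W.1 ≤ g ⁻¹ᵁ V.1) :
    ((Ideal.Quotient.mk (I.ideal W)).comp (g.appLE V.1 W.1 le).hom).Flat := by
  have e' : I.subschemeι ⁻¹ᵁ W.1 ≤ (I.subschemeι ≫ g) ⁻¹ᵁ V.1 := by
    rw [Scheme.Hom.comp_preimage]
    exact I.subschemeι.preimage_mono le
  have h1 : ((I.subschemeι ≫ g).appLE V.1 (I.subschemeι ⁻¹ᵁ W.1) e').hom.Flat :=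
    HasRingHomProperty.appLE (P := @Flat) _ ‹_› V ⟨_, K680.FlatIdeal.isAffineOpen_preimage I W⟩ e'
  rw [K680.FlatIdeal.appLE_comp I g W V.1 le e'] at h1
  exact (K680.FlatIdeal.flat_comp_iff_of_isIso _ _).1 h1

/-- Generators of ideals of flat subschemes lift. -/
theorem liftGen_of_flat [IsClosedImmersion i₀] [Surjective i₀] [IsClosedImmersion j] [Surjective j]
    (hX : IsPullback j f g i₀)
    (hn : ∀ V : T.affineOpens, IsNilpotent (RingHom.ker (i₀.app V.1).hom)) (I : Y.IdealSheafData)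
    [Flat (I.subschemeι ≫ g)] : LiftGen j (I.comap j) I := by
  intro y
  obtain ⟨V, hV, hyV, -⟩ := exists_isAffineOpen_mem_and_subset (X := T) (x := g y) (U := ⊤) trivial
  refine ⟨g ⁻¹ᵁ V, hyV, fun W hW z₀ _ h => ?_⟩
  rw [ideal_pre_eq] at h
  have hsj : Function.Surjective (j.app W.1).hom := Scheme.Hom.app_surjective j W.1 W.2
  obtain ⟨z, hz, hz', hle⟩ := exists_mem_of_map_eq hsj _ z₀ h
  refine ⟨z, hz', ?_⟩
  rw [ker_app_eq hX ⟨V, hV⟩ W hW] at hle
  exact ideal_eq_of_flat (g.appLE V W.1 hW).hom _ (hn ⟨V, hV⟩) _ _ (flat_quotient g I ⟨V, hV⟩ W hW)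
    ((Ideal.span_singleton_le_iff_mem _).2 hz) hle

/-- Generators of locally principal ideals lift. -/
theorem liftGen_of_principal [IsClosedImmersion i₀] [IsClosedImmersion j] [Surjective j]
    (hX : IsPullback j f g i₀)
    (hn : ∀ V : T.affineOpens, IsNilpotent (RingHom.ker (i₀.app V.1).hom)) (I : Y.IdealSheafData)
    (hI : ∀ y : Y, ∃ U : Y.affineOpens, y ∈ U.1 ∧ ∃ ε, I.ideal U = Ideal.span {ε}) :
    LiftGen j (I.comap j) I := by
  intro y
  obtain ⟨V, hV, hyV, -⟩ := exists_isAffineOpen_mem_and_subset (X := T) (x := g y) (U := ⊤) trivial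
  obtain ⟨U, hyU, ε, hε⟩ := hI y
  refine ⟨g ⁻¹ᵁ V ⊓ U.1, ⟨hyV, hyU⟩, fun W hW z₀ hz₀ h => ?_⟩
  have hWU : W.1 ≤ U.1 := hW.trans inf_le_right
  have h1 : I.ideal W = Ideal.span {(Y.presheaf.map (homOfLE hWU).op).hom ε} := by
    have h2 := I.map_ideal (U := W) (V := U) hWU
    rw [hε, Ideal.map_span, Set.image_singleton] at h2
    exact h2.symm
  rw [ideal_pre_eq, h1, Ideal.map_span, Set.image_singleton] at h
  have hsj : Function.Surjective (j.app W.1).hom := Scheme.Hom.app_surjective j W.1 W.2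
  have hnj : IsNilpotent (RingHom.ker (j.app W.1).hom) := by
    rw [ker_app_eq hX ⟨V, hV⟩ W (hW.trans inf_le_left)]
    obtain ⟨k, hk⟩ := hn ⟨V, hV⟩
    exact ⟨k, by rw [← Ideal.map_pow, hk, Ideal.zero_eq_bot, Ideal.map_bot, Ideal.zero_eq_bot]⟩
  obtain ⟨z, hz, hz'⟩ := exists_lift_generator hsj hnj _ z₀ h.symm hz₀
  exact ⟨z, hz, by rw [h1, hz']⟩

end Lift

end K235.Chart
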