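import Mathlib.Algebra.Module.FinitePresentation
import Mathlib.RingTheory.Localization.Away.Basic
import Mathlib.RingTheory.Localization.Module
import Mathlib.RingTheory.Localization.Ideal
import Mathlib.RingTheory.Noetherian.Basic
import Mathlib.Tactic.LinearCombination
import Mathlib.Tactic.Ring

/-!
# Retractions of square-zero extensions: from local to global

`exists_algHom`: `R` Noetherian, `C` a Noetherian `R`-algebra, `K ⊂ C` an ideal of square zero with `R → C/K` surjective and
`K₁ = K ∩ R` of square zero; ideals `J i ⊂ C` and `E i ⊂ R` with `J i ≤ E i C + K`.  If locally on `R` there are `R`-algebra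
maps `C → R_c` carrying `K` into `K₁ R_c` and `J i` into `E i R_c`, there is such a map `C → R`: these maps are the
solutions of a system of linear equations over `R`.
-/

set_option autoImplicit false
universe u

namespace K235.LinLift

section Pow

variable {R : Type*} [CommRing R] {N : Type*} [AddCommMonoid N] [Module R N]

/-- A linear form on a finite module which locally takes values in an ideal does so after multiplication by a power. -/
theorem exists_pow_mul_mem [Module.Finite R N] (c : R) (Rc : Type*) [CommRing Rc] [Algebra R Rc]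
    [IsLocalization.Away c Rc] (F : Ideal R) (θ : N →ₗ[R] R)
    (h : ∀ x, algebraMap R Rc (θ x) ∈ F.map (algebraMap R Rc)) :
    ∃ n : ℕ, ∀ x, c ^ n * θ x ∈ F := by
  classical
  obtain ⟨s, hs⟩ := (Module.Finite.fg_top : (⊤ : Submodule R N).FG)
  have h1 : ∀ x : N, ∃ n : ℕ, c ^ n * θ x ∈ F := by
    intro x
    obtain ⟨m, ⟨n, rfl⟩, hm⟩ :=
      (IsLocalization.algebraMap_mem_map_algebraMap_iff (Submonoid.powers c) Rc F (θ x)).1 (h x)
    exact ⟨n, hm⟩
  choose n hn using h1
  refine ⟨∑ x ∈ s, n x, fun x => ?_⟩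
  let ψ : N →ₗ[R] R := c ^ (∑ x ∈ s, n x) • θ
  have h2 : (⊤ : Submodule R N) ≤ Submodule.comap ψ F := by
    rw [← hs, Submodule.span_le]
    intro y hy
    change c ^ (∑ x ∈ s, n x) * θ y ∈ F
    rw [← Finset.add_sum_erase s n hy, pow_add, mul_comm (c ^ n y), mul_assoc]
    exact F.mul_mem_left _ (hn y)
  exact h2 (Submodule.mem_top : x ∈ ⊤)

end Pow

section Main

variable {R C : Type u} [CommRing R] [CommRing C] [Algebra R C] {ι : Type*}
  (K : Ideal C) (J : ι → Ideal C) (E : ι → Ideal R)

/-- The linear system: `θ : K → R` with values in `K ∩ R`, multiplication by `b` on `K ∩ R`, and carrying the part of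
`K` in `J i + E i C` into `E i`. -/
structure Sol (b : R) (θ : (K.restrictScalars R : Submodule R C) →ₗ[R] R) : Prop where
  mem : ∀ k, θ k ∈ K.comap (algebraMap R C)
  eq : ∀ (a : R) (ha : algebraMap R C a ∈ K), θ ⟨algebraMap R C a, ha⟩ = b * a
  ideal : ∀ i (k : (K.restrictScalars R : Submodule R C)),
    (k : C) ∈ J i ⊔ (E i).map (algebraMap R C) → θ k ∈ E i

/-- The set of `b` for which the linear system has a solution is an ideal. -/
def solIdeal : Ideal R where
  carrier := {b | ∃ θ, Sol K J E b θ}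
  add_mem' := by
    rintro a b ⟨θ, h⟩ ⟨θ', h'⟩
    refine ⟨θ + θ', ⟨fun k => ?_, fun x hx => ?_, fun i k hk => ?_⟩⟩
    · exact Ideal.add_mem _ (h.mem k) (h'.mem k)
    · rw [LinearMap.add_apply, h.eq, h'.eq, add_mul]
    · exact Ideal.add_mem _ (h.ideal i k hk) (h'.ideal i k hk)
  zero_mem' := by
    refine ⟨0, ⟨fun k => ?_, fun x hx => ?_, fun i k hk => ?_⟩⟩
    · exact Ideal.zero_mem _
    · rw [LinearMap.zero_apply, zero_mul]
    · exact Ideal.zero_mem _
  smul_mem' := by
    rintro c b ⟨θ, h⟩
    refine ⟨c • θ, ⟨fun k => ?_, fun x hx => ?_, fun i k hk => ?_⟩⟩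
    · exact Ideal.mul_mem_left _ _ (h.mem k)
    · rw [LinearMap.smul_apply, h.eq, smul_eq_mul, smul_eq_mul, mul_assoc]
    · exact Ideal.mul_mem_left _ _ (h.ideal i k hk)

theorem mem_solIdeal (b : R) : b ∈ solIdeal K J E ↔ ∃ θ, Sol K J E b θ := Iff.rfl

variable {K J E}

/-- The ideal `K` is a finite `R`-module. -/
theorem finite_of_sq_zero [IsNoetherianRing C] (hK : K * K = ⊥)
    (hs : ∀ c : C, ∃ r : R, c - algebraMap R C r ∈ K) :
    Module.Finite R (K.restrictScalars R : Submodule R C) := by
  obtain ⟨s, hs'⟩ := (isNoetherianRing_iff_ideal_fg C).1 inferInstance K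
  refine Module.Finite.of_fg ⟨s, le_antisymm ?_ ?_⟩
  · rw [Submodule.span_le]
    intro x hx
    change x ∈ K
    rw [← hs']
    exact Submodule.subset_span hx
  · intro x hx
    change x ∈ K at hx
    rw [← hs'] at hx
    induction hx using Submodule.span_induction with
    | mem x hx => exact Submodule.subset_span hx
    | zero => exact Submodule.zero_mem _
    | add x y _ _ hx hy => exact Submodule.add_mem _ hx hy
    | smul c x hx' hx =>
      obtain ⟨r, hr⟩ := hs c
      have h1 : c • x = r • x := by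
        have h2 : (c - algebraMap R C r) * x ∈ K * K := by
          refine Ideal.mul_mem_mul hr ?_
          rw [← hs']
          exact hx'
        rw [hK, Ideal.mem_bot, sub_mul, sub_eq_zero] at h2
        rw [smul_eq_mul, Algebra.smul_def, h2]
      rw [h1]
      exact Submodule.smul_mem _ _ hx

/-- A local solution provides a global solution up to a power. -/
theorem exists_pow_mem_solIdeal [IsNoetherianRing R] [IsNoetherianRing C] [Finite ι] (hK : K * K = ⊥)
    (hs : ∀ c : C, ∃ r : R, c - algebraMap R C r ∈ K) (c : R) (Rc : Type u) [CommRing Rc] [Algebra R Rc]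
    [IsLocalization.Away c Rc] (h : C →ₐ[R] Rc)
    (hh : ∀ k ∈ K, h k ∈ (K.comap (algebraMap R C)).map (algebraMap R Rc))
    (hJ : ∀ i, ∀ x ∈ J i, h x ∈ (E i).map (algebraMap R Rc)) :
    ∃ n : ℕ, c ^ n ∈ solIdeal K J E := by
  classical
  have hfin := finite_of_sq_zero (R := R) hK hs
  have hfp : Module.FinitePresentation R (K.restrictScalars R : Submodule R C) :=
    Module.finitePresentation_of_finite R _
  have hnoeth : IsNoetherian R (K.restrictScalars R : Submodule R C) := inferInstance
  obtain ⟨θ, ⟨_, n, rfl⟩, hθ⟩ := Module.FinitePresentation.exists_lift_of_isLocalizedModule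
    (Submonoid.powers c) (Algebra.linearMap R Rc)
    (h.toLinearMap.comp (K.restrictScalars R : Submodule R C).subtype)
  have hθ' : ∀ k : (K.restrictScalars R : Submodule R C), algebraMap R Rc (θ k) = algebraMap R Rc (c ^ n) * h k := by
    intro k
    have := congrArg (fun f => f k) hθ
    refine this.trans ?_
    exact Algebra.smul_def _ _
  -- values in `K ∩ R`
  obtain ⟨n₁, hn₁⟩ := exists_pow_mul_mem c Rc (K.comap (algebraMap R C)) θ (fun x => by
    rw [hθ']
    exact Ideal.mul_mem_left _ _ (hh _ x.2))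
  -- multiplication by a scalar on `K ∩ R`
  let N₂ : Submodule R R := K.comap (algebraMap R C)
  have hinc : ∀ x : N₂, algebraMap R C (x : R) ∈ K.restrictScalars R := fun x => x.2
  let θ₂ : N₂ →ₗ[R] R :=
    (θ.comp ((Algebra.linearMap R C).restrict (p := N₂) (q := K.restrictScalars R) (fun x hx => hx))) -
      c ^ n • N₂.subtype
  obtain ⟨n₂, hn₂⟩ := exists_pow_mul_mem c Rc ⊥ θ₂ (fun x => by
    have h1 : θ₂ x = θ ⟨algebraMap R C (x : R), hinc x⟩ - c ^ n * (x : R) := rfl
    rw [h1, map_sub, hθ', map_mul, AlgHom.commutes, sub_self]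
    exact Ideal.zero_mem _)
  -- the conditions on ideals
  have h3 : ∀ i, ∃ n₃ : ℕ, ∀ k : (K.restrictScalars R : Submodule R C),
      (k : C) ∈ J i ⊔ (E i).map (algebraMap R C) → c ^ n₃ * θ k ∈ E i := by
    intro i
    let N₃ : Submodule R (K.restrictScalars R : Submodule R C) :=
      ((J i ⊔ (E i).map (algebraMap R C)).restrictScalars R).comap (K.restrictScalars R : Submodule R C).subtype
    have : Module.Finite R N₃ := Module.Finite.of_fg (IsNoetherian.noetherian N₃)
    let θ₃ : N₃ →ₗ[R] R := θ.comp N₃.subtype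
    obtain ⟨n₃, hn₃⟩ := exists_pow_mul_mem c Rc (E i) θ₃ (fun x => by
      change algebraMap R Rc (θ x.1) ∈ _
      rw [hθ']
      refine Ideal.mul_mem_left _ _ ?_
      obtain ⟨y, hy, z, hz, hyz⟩ := Submodule.mem_sup.1 (x.2 : (x.1 : C) ∈ J i ⊔ (E i).map (algebraMap R C))
      have hyz' : (x.1 : C) = y + z := hyz.symm
      rw [hyz', map_add]
      refine Ideal.add_mem _ (hJ i y hy) ?_
      have h4 : ((E i).map (algebraMap R C)).map (h : C →+* Rc) = (E i).map (algebraMap R Rc) := by
        rw [Ideal.map_map]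
        congr 1
        exact h.comp_algebraMap
      rw [← h4]
      exact Ideal.mem_map_of_mem _ hz)
    exact ⟨n₃, fun k hk => hn₃ ⟨k, hk⟩⟩
  choose n₃ hn₃ using h3
  have : Fintype ι := Fintype.ofFinite ι
  let m := n₁ + n₂ + ∑ i, n₃ i
  refine ⟨m + n, c ^ m • θ, ⟨fun k => ?_, fun a ha => ?_, fun i k hk => ?_⟩⟩
  · have h1 : (c ^ m • θ) k = c ^ (n₂ + ∑ i, n₃ i) * (c ^ n₁ * θ k) := by
      change c ^ m * θ k = _
      rw [← mul_assoc, ← pow_add]
      congr 2
      omega
    rw [h1]
    exact Ideal.mul_mem_left _ _ (hn₁ k)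
  · have h1 : (c ^ m • θ) ⟨algebraMap R C a, ha⟩ - c ^ (m + n) * a =
        c ^ (n₁ + ∑ i, n₃ i) * (c ^ n₂ * θ₂ ⟨a, ha⟩) := by
      have h2 : θ₂ ⟨a, ha⟩ = θ ⟨algebraMap R C a, ha⟩ - c ^ n * a := rfl
      rw [h2]
      change c ^ m * θ _ - _ = _
      rw [show m = (n₁ + ∑ i, n₃ i) + n₂ by omega, pow_add, pow_add]
      ring
    have h3 := hn₂ ⟨a, ha⟩
    rw [Ideal.mem_bot] at h3
    rw [h3, mul_zero, sub_eq_zero] at h1
    exact h1
  · have h1 : (c ^ m • θ) k = c ^ (n₁ + n₂ + ∑ j ∈ Finset.univ.erase i, n₃ j) * (c ^ n₃ i * θ k) := by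
      change c ^ m * θ k = _
      rw [← mul_assoc, ← pow_add]
      congr 2
      have := Finset.add_sum_erase Finset.univ n₃ (Finset.mem_univ i)
      omega
    rw [h1]
    exact Ideal.mul_mem_left _ _ (hn₃ i k hk)

/-- A solution for `b = 1` is a retraction. -/
theorem exists_algHom_of_sol (hK : K * K = ⊥) (hK₁ : K.comap (algebraMap R C) * K.comap (algebraMap R C) = ⊥)
    (hs : ∀ c : C, ∃ r : R, c - algebraMap R C r ∈ K)
    (hJ : ∀ i, J i ≤ (E i).map (algebraMap R C) ⊔ K) (h : (1 : R) ∈ solIdeal K J E) :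
    ∃ g : C →ₐ[R] R, (∀ k ∈ K, g k ∈ K.comap (algebraMap R C)) ∧ ∀ i, ∀ x ∈ J i, g x ∈ E i := by
  obtain ⟨θ, hθ⟩ := h
  choose r hr using hs
  let f : C → R := fun c => r c + θ ⟨c - algebraMap R C (r c), hr c⟩
  have hf : ∀ (c : C) (s : R) (hc : c - algebraMap R C s ∈ K), f c = s + θ ⟨c - algebraMap R C s, hc⟩ := by
    intro c s hc
    have h1 : algebraMap R C (s - r c) ∈ K := by
      have h2 : algebraMap R C (s - r c) = (c - algebraMap R C (r c)) - (c - algebraMap R C s) := by
        rw [map_sub]; ring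
      rw [h2]
      exact K.sub_mem (hr c) hc
    have h2 := hθ.eq (s - r c) h1
    have h3 : (⟨algebraMap R C (s - r c), h1⟩ : (K.restrictScalars R : Submodule R C)) =
        ⟨c - algebraMap R C (r c), hr c⟩ - ⟨c - algebraMap R C s, hc⟩ := by
      apply Subtype.ext
      change algebraMap R C (s - r c) = (c - algebraMap R C (r c)) - (c - algebraMap R C s)
      rw [map_sub]; ring
    rw [h3, map_sub, one_mul] at h2
    change r c + θ _ = _
    linear_combination h2
  have hadd : ∀ x y, f (x + y) = f x + f y := by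
    intro x y
    have h1 : x + y - algebraMap R C (r x + r y) ∈ K := by
      have h2 : x + y - algebraMap R C (r x + r y) = (x - algebraMap R C (r x)) + (y - algebraMap R C (r y)) := by
        rw [map_add]; ring
      rw [h2]
      exact K.add_mem (hr x) (hr y)
    rw [hf (x + y) (r x + r y) h1]
    have h3 : (⟨x + y - algebraMap R C (r x + r y), h1⟩ : (K.restrictScalars R : Submodule R C)) =
        ⟨x - algebraMap R C (r x), hr x⟩ + ⟨y - algebraMap R C (r y), hr y⟩ := by
      apply Subtype.ext
      change x + y - algebraMap R C (r x + r y) = (x - algebraMap R C (r x)) + (y - algebraMap R C (r y))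
      rw [map_add]; ring
    rw [h3, map_add]
    change _ = (r x + θ _) + (r y + θ _)
    ring
  have hmul : ∀ x y, f (x * y) = f x * f y := by
    intro x y
    have h0 : (x - algebraMap R C (r x)) * (y - algebraMap R C (r y)) = 0 := by
      have := Ideal.mul_mem_mul (hr x) (hr y)
      rwa [hK, Ideal.mem_bot] at this
    have h2 : x * y - algebraMap R C (r x * r y) =
        r y • (x - algebraMap R C (r x)) + r x • (y - algebraMap R C (r y)) := by
      rw [map_mul, Algebra.smul_def, Algebra.smul_def]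
      linear_combination h0
    have h1 : x * y - algebraMap R C (r x * r y) ∈ K := by
      rw [h2]
      exact K.add_mem (by rw [Algebra.smul_def]; exact K.mul_mem_left _ (hr x))
        (by rw [Algebra.smul_def]; exact K.mul_mem_left _ (hr y))
    rw [hf (x * y) (r x * r y) h1]
    have h3 : (⟨x * y - algebraMap R C (r x * r y), h1⟩ : (K.restrictScalars R : Submodule R C)) =
        r y • ⟨x - algebraMap R C (r x), hr x⟩ + r x • ⟨y - algebraMap R C (r y), hr y⟩ := by
      apply Subtype.ext
      exact h2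
    rw [h3, map_add, map_smul, map_smul]
    have h4 := Ideal.mul_mem_mul (hθ.mem ⟨x - algebraMap R C (r x), hr x⟩) (hθ.mem ⟨y - algebraMap R C (r y), hr y⟩)
    rw [hK₁, Ideal.mem_bot] at h4
    change _ = (r x + θ _) * (r y + θ _)
    rw [smul_eq_mul, smul_eq_mul]
    linear_combination -h4
  have halg : ∀ s : R, f (algebraMap R C s) = s := by
    intro s
    have h1 : algebraMap R C s - algebraMap R C s ∈ K := by
      rw [sub_self]; exact K.zero_mem
    rw [hf _ s h1]
    have h3 : (⟨algebraMap R C s - algebraMap R C s, h1⟩ : (K.restrictScalars R : Submodule R C)) = 0 :=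
      Subtype.ext (sub_self _)
    rw [h3, map_zero, add_zero]
  let g : C →ₐ[R] R :=
    { toFun := f
      map_one' := by
        have := halg 1
        rwa [map_one] at this
      map_mul' := hmul
      map_zero' := by
        have := halg 0
        rwa [map_zero] at this
      map_add' := hadd
      commutes' := halg }
  refine ⟨g, fun k hk => ?_, fun i x hx => ?_⟩
  · have h1 : k - algebraMap R C 0 ∈ K := by rwa [map_zero, sub_zero]
    change f k ∈ _
    rw [hf k 0 h1, zero_add]
    exact hθ.mem _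
  · have h1 : ∀ e ∈ (E i).map (algebraMap R C), ∃ s ∈ E i, e - algebraMap R C s ∈ K := by
      intro e he
      refine Submodule.span_induction (p := fun e _ => ∃ s ∈ E i, e - algebraMap R C s ∈ K) ?_ ?_ ?_ ?_ he
      · rintro _ ⟨s, hs, rfl⟩
        exact ⟨s, hs, by rw [sub_self]; exact K.zero_mem⟩
      · exact ⟨0, (E i).zero_mem, by rw [map_zero, sub_zero]; exact K.zero_mem⟩
      · rintro a b _ _ ⟨s, hs, hs'⟩ ⟨t, ht, ht'⟩
        refine ⟨s + t, (E i).add_mem hs ht, ?_⟩
        have : a + b - algebraMap R C (s + t) = (a - algebraMap R C s) + (b - algebraMap R C t) := by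
          rw [map_add]; ring
        rw [this]
        exact K.add_mem hs' ht'
      · rintro a b _ ⟨s, hs, hs'⟩
        refine ⟨r a * s, (E i).mul_mem_left _ hs, ?_⟩
        have : a • b - algebraMap R C (r a * s) =
            a * (b - algebraMap R C s) + algebraMap R C s * (a - algebraMap R C (r a)) := by
          rw [map_mul, smul_eq_mul]; ring
        rw [this]
        exact K.add_mem (K.mul_mem_left _ hs') (K.mul_mem_left _ (hr a))
    obtain ⟨e, he, k, hk, hek⟩ := Submodule.mem_sup.1 (hJ i hx)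
    obtain ⟨s, hs, hes⟩ := h1 e he
    have h2 : x - algebraMap R C s ∈ K := by
      rw [← hek, add_sub_right_comm]
      exact K.add_mem hes hk
    change f x ∈ _
    rw [hf x s h2]
    refine (E i).add_mem hs (hθ.ideal i _ ?_)
    exact Submodule.sub_mem _ (Submodule.mem_sup_left hx)
      (Submodule.mem_sup_right (Ideal.mem_map_of_mem _ hs))

/-- Retractions compatible with ideals exist if they exist locally. -/
theorem exists_algHom [IsNoetherianRing R] [IsNoetherianRing C] [Finite ι] (hK : K * K = ⊥)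
    (hK₁ : K.comap (algebraMap R C) * K.comap (algebraMap R C) = ⊥)
    (hs : ∀ c : C, ∃ r : R, c - algebraMap R C r ∈ K)
    (hJ : ∀ i, J i ≤ (E i).map (algebraMap R C) ⊔ K)
    (hloc : ∀ P : Ideal R, P.IsPrime → ∃ c : R, c ∉ P ∧ ∃ (Rc : Type u) (_ : CommRing Rc) (_ : Algebra R Rc)
      (_ : IsLocalization.Away c Rc) (h : C →ₐ[R] Rc),
      (∀ k ∈ K, h k ∈ (K.comap (algebraMap R C)).map (algebraMap R Rc)) ∧
      ∀ i, ∀ x ∈ J i, h x ∈ (E i).map (algebraMap R Rc)) :
    ∃ g : C →ₐ[R] R, (∀ k ∈ K, g k ∈ K.comap (algebraMap R C)) ∧ ∀ i, ∀ x ∈ J i, g x ∈ E i := by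
  refine exists_algHom_of_sol hK hK₁ hs hJ ?_
  by_contra hne
  obtain ⟨P, hP, hle⟩ := Ideal.exists_le_maximal (solIdeal K J E) ((Ideal.ne_top_iff_one _).2 hne)
  obtain ⟨c, hc, Rc, _, _, _, h, hh, hJ'⟩ := hloc P hP.isPrime
  obtain ⟨n, hn⟩ := exists_pow_mem_solIdeal (J := J) (E := E) hK hs c Rc h hh hJ'
  exact hc (hP.isPrime.mem_of_pow_mem n (hle hn))

end Main

end K235.LinLift
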