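import Groth.Agent.Lift.K235.Chart

/-!
# Local liftings of a scheme with charts along a nilpotent thickening of the base
-/

set_option autoImplicit false
universe u

open CategoryTheory CategoryTheory.Limits AlgebraicGeometry TopologicalSpace TensorProduct

namespace K235.LocLift

open K235.Thick K235.Alg K235.Chart Groth.Agent.Divis.IdealComap

section Ring

variable {A A₀ B₀ : Type u} [CommRing A] [CommRing A₀] [CommRing B₀]

/-- Algebras with étale coordinates lift, with their coordinates. -/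
theorem exists_etale_lift_coord {n : ℕ} (a : A →+* A₀) (ha : Function.Surjective a) (φ₀ : A₀ →+* B₀)
    (v₀ : Fin n → B₀) (h : (MvPolynomial.eval₂Hom φ₀ v₀).Etale) :
    ∃ (B : Type u) (_ : CommRing B) (φ : A →+* B) (b : B →+* B₀) (v : Fin n → B),
      Function.Surjective b ∧ RingHom.ker b = (RingHom.ker a).map φ ∧ φ₀.comp a = b.comp φ ∧
      (∀ i, b (v i) = v₀ i) ∧ (MvPolynomial.eval₂Hom φ v).Etale := by
  let P := MvPolynomial (Fin n) A
  let P₀ := MvPolynomial (Fin n) A₀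
  let _ : Algebra P P₀ := (MvPolynomial.map a).toAlgebra
  let _ : Algebra P₀ B₀ := (MvPolynomial.eval₂Hom φ₀ v₀).toAlgebra
  have hPs : Function.Surjective (algebraMap P P₀) := MvPolynomial.map_surjective a ha
  have het : Algebra.Etale P₀ B₀ := h
  obtain ⟨B, _, _, hB, ⟨ε⟩⟩ := Groth.Agent.Proet.EtaleLift.exists_etale_lift P P₀ B₀ hPs
  let b : B →+* B₀ := (ε : P₀ ⊗[P] B →+* B₀).comp
    (Algebra.TensorProduct.includeRight (R := P) (A := P₀) (B := B)).toRingHom
  have hb : ∀ x, b x = ε (1 ⊗ₜ x) := fun x => rfl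
  let φ : A →+* B := (algebraMap P B).comp MvPolynomial.C
  have hbP : ∀ q : P, b (algebraMap P B q) = MvPolynomial.eval₂Hom φ₀ v₀ (MvPolynomial.map a q) := by
    intro q
    rw [hb, ← Algebra.TensorProduct.tmul_one_eq_one_tmul]
    have h1 : (algebraMap P P₀ q) ⊗ₜ[P] (1 : B) = algebraMap P₀ (P₀ ⊗[P] B) (algebraMap P P₀ q) := rfl
    rw [h1, ε.commutes]
    rfl
  have hev : MvPolynomial.eval₂Hom φ (fun k => algebraMap P B (MvPolynomial.X k)) = algebraMap P B := by
    apply MvPolynomial.ringHom_ext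
    · intro r
      simp only [MvPolynomial.coe_eval₂Hom, MvPolynomial.eval₂_C]
      rfl
    · intro i
      simp only [MvPolynomial.coe_eval₂Hom, MvPolynomial.eval₂_X]
  refine ⟨B, inferInstance, φ, b, fun k => algebraMap P B (MvPolynomial.X k), ?_, ?_, ?_, ?_, ?_⟩
  · intro y
    obtain ⟨t, rfl⟩ := ε.surjective y
    have hsurj : ∀ t : P₀ ⊗[P] B, ∃ x : B, (1 : P₀) ⊗ₜ[P] x = t := by
      intro t
      induction t with
      | zero => exact ⟨0, by simp⟩
      | tmul s x =>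
        obtain ⟨r, rfl⟩ := hPs s
        refine ⟨r • x, ?_⟩
        rw [TensorProduct.tmul_smul, TensorProduct.smul_tmul', Algebra.smul_def, mul_one]
      | add s t hs ht =>
        obtain ⟨x, rfl⟩ := hs
        obtain ⟨y, rfl⟩ := ht
        exact ⟨x + y, TensorProduct.tmul_add _ _ _⟩
    obtain ⟨x, rfl⟩ := hsurj t
    exact ⟨x, rfl⟩
  · have h3 : RingHom.ker (algebraMap P P₀) = (RingHom.ker a).map MvPolynomial.C := MvPolynomial.ker_map a
    ext x
    rw [RingHom.mem_ker, hb, map_eq_zero_iff _ ε.injective,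
      Groth.Agent.Sga3A.LiftGL.one_tmul_eq_zero_iff hPs, Ideal.smul_top_eq_map, h3, Ideal.map_map]
    rfl
  · ext x
    have h1 := hbP (MvPolynomial.C x)
    simp only [MvPolynomial.coe_eval₂Hom, MvPolynomial.map_C, MvPolynomial.eval₂_C] at h1
    exact h1.symm
  · intro i
    have h1 := hbP (MvPolynomial.X i)
    simp only [MvPolynomial.coe_eval₂Hom, MvPolynomial.map_X, MvPolynomial.eval₂_X] at h1
    exact h1
  · rw [hev]
    exact RingHom.etale_algebraMap.2 hB

end Ring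

section Scheme

variable {X S Sl : Scheme.{u}}

theorem fromSpec_appLE (V : X.affineOpens) (e : (⊤ : (Spec Γ(X, V.1)).Opens) ≤ V.2.fromSpec ⁻¹ᵁ V.1) :
    V.2.fromSpec.appLE V.1 ⊤ e = (Scheme.ΓSpecIso Γ(X, V.1)).inv := by
  rw [Scheme.Hom.appLE, IsAffineOpen.fromSpec_app_self, Category.assoc, ← Functor.map_comp]
  refine Eq.trans ?_ (Category.comp_id _)
  refine congrArg ((Scheme.ΓSpecIso Γ(X, V.1)).inv ≫ ·) ?_
  exact (congrArg _ (Subsingleton.elim _ _)).trans ((Spec Γ(X, V.1)).presheaf.map_id _)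

variable (V : Sl.affineOpens) {B : CommRingCat.{u}} (φ : Γ(Sl, V.1) ⟶ B)

/-- The structure morphism of the lifting. -/
noncomputable abbrev gMap : Spec B ⟶ Sl := Spec.map φ ≫ V.2.fromSpec

theorem le_gMap : (⊤ : (Spec B).Opens) ≤ gMap V φ ⁻¹ᵁ V.1 := by
  rw [Scheme.Hom.comp_preimage, IsAffineOpen.fromSpec_preimage_self]
  exact le_rfl

theorem gMap_appLE : (gMap V φ).appLE V.1 ⊤ (le_gMap V φ) = φ ≫ (Scheme.ΓSpecIso B).inv := by
  have e : (⊤ : (Spec Γ(Sl, V.1)).Opens) ≤ V.2.fromSpec ⁻¹ᵁ V.1 := by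
    rw [IsAffineOpen.fromSpec_preimage_self]
  have h1 : V.2.fromSpec.appLE V.1 ⊤ e ≫ (Spec.map φ).appLE ⊤ ⊤ le_top = (gMap V φ).appLE V.1 ⊤ (le_gMap V φ) :=
    Scheme.Hom.appLE_comp_appLE _ _ _ _ _ _ _
  rw [← h1, fromSpec_appLE]
  have h2 : (Spec.map φ).appLE ⊤ ⊤ le_top = (Spec.map φ).appTop := by
    rw [Scheme.Hom.appTop, Scheme.Hom.app_eq_appLE]
    rfl
  rw [h2, Iso.inv_comp_eq, ← Category.assoc, Iso.eq_comp_inv]
  exact Scheme.ΓSpecIso_naturality φ

variable (W : X.affineOpens) (b : B ⟶ Γ(X, W.1))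

/-- The closed immersion into the lifting. -/
noncomputable abbrev jMap : (W.1 : Scheme.{u}) ⟶ Spec B := W.2.isoSpec.hom ≫ Spec.map b

theorem le_ι : (⊤ : (W.1 : Scheme.{u}).Opens) ≤ W.1.ι ⁻¹ᵁ W.1 := by
  rw [Scheme.Opens.ι_preimage_self]

theorem ι_appLE : W.1.ι.appLE W.1 ⊤ (le_ι W) =
    (Scheme.ΓSpecIso Γ(X, W.1)).inv ≫ W.2.isoSpec.hom.appTop := by
  have e : (⊤ : (Spec Γ(X, W.1)).Opens) ≤ W.2.fromSpec ⁻¹ᵁ W.1 := by
    rw [IsAffineOpen.fromSpec_preimage_self]
  have h1 : W.2.fromSpec.appLE W.1 ⊤ e ≫ W.2.isoSpec.hom.appLE ⊤ ⊤ le_top =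
      (W.2.isoSpec.hom ≫ W.2.fromSpec).appLE W.1 ⊤ (by
        rw [IsAffineOpen.isoSpec_hom_fromSpec]; exact le_ι W) :=
    Scheme.Hom.appLE_comp_appLE _ _ _ _ _ _ _
  have h2 : W.2.isoSpec.hom.appLE ⊤ ⊤ le_top = W.2.isoSpec.hom.appTop := by
    rw [Scheme.Hom.appTop, Scheme.Hom.app_eq_appLE]
    rfl
  rw [fromSpec_appLE, h2] at h1
  rw [h1]
  congr 1
  exact (IsAffineOpen.isoSpec_hom_fromSpec W.2).symm

theorem jMap_appTop : (Scheme.ΓSpecIso B).inv ≫ (jMap W b).appTop = b ≫ W.1.ι.appLE W.1 ⊤ (le_ι W) := by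
  have h1 : (jMap W b).appTop = (Spec.map b).appTop ≫ W.2.isoSpec.hom.appTop := Scheme.Hom.comp_appTop _ _
  have h2 : (Scheme.ΓSpecIso B).inv ≫ (Spec.map b).appTop = b ≫ (Scheme.ΓSpecIso Γ(X, W.1)).inv := by
    rw [Iso.inv_comp_eq, ← Category.assoc, Iso.eq_comp_inv]
    exact Scheme.ΓSpecIso_naturality b
  rw [h1, ← Category.assoc, h2, Category.assoc, ← ι_appLE]

theorem isIso_ι_appLE : IsIso (W.1.ι.appLE W.1 ⊤ (le_ι W)) := by
  rw [ι_appLE]
  have h0 : IsIso (W.2.isoSpec.hom.app ⊤) := inferInstance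
  have h1 : IsIso W.2.isoSpec.hom.appTop := h0
  exact IsIso.comp_isIso' inferInstance h1

/-- The lifting is cartesian. -/
theorem isPullback (iS : S ⟶ Sl) [IsClosedImmersion iS] (f : X ⟶ S)
    (le : W.1 ≤ f ⁻¹ᵁ (iS ⁻¹ᵁ V.1)) (hb : Function.Surjective b.hom)
    (hk : RingHom.ker b.hom = (RingHom.ker (iS.app V.1).hom).map φ.hom)
    (hc : iS.app V.1 ≫ f.appLE (iS ⁻¹ᵁ V.1) W.1 le = φ ≫ b) :
    IsPullback (jMap W b) (W.1.ι ≫ f) (gMap V φ) iS := by
  have h0 : IsClosedImmersion (Spec.map b) := IsClosedImmersion.spec_of_surjective _ hb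
  have h1 : IsClosedImmersion (jMap W b) := inferInstance
  refine isPullback_of_isClosedImmersion (jMap W b) iS (W.1.ι ≫ f) (gMap V φ) ?_ ?_
  · have le' : W.1 ≤ (f ≫ iS) ⁻¹ᵁ V.1 := le
    have h2 : (f ≫ iS).appLE V.1 W.1 le' = φ ≫ b := by
      rw [← hc, Scheme.Hom.app_eq_appLE, Scheme.Hom.appLE_comp_appLE]
    have h3 := IsAffineOpen.SpecMap_appLE_fromSpec (f ≫ iS) V.2 W.2 le'
    rw [h2, Spec.map_comp, Category.assoc] at h3
    have h4 : jMap W b ≫ gMap V φ = W.2.isoSpec.hom ≫ (Spec.map b ≫ Spec.map φ ≫ V.2.fromSpec) :=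
      Category.assoc _ _ _
    rw [h4, h3, ← Category.assoc, IsAffineOpen.isoSpec_hom_fromSpec, Category.assoc]
  · apply Scheme.IdealSheafData.ext_of_isAffine
    rw [ideal_comap iS.ker (gMap V φ) V ⟨⊤, isAffineOpen_top _⟩ (le_gMap V φ), Scheme.Hom.ker_apply,
      Scheme.Hom.ker_apply]
    have h2 : ((gMap V φ).appLE V.1 ⊤ (le_gMap V φ)).hom = ((Scheme.ΓSpecIso B).inv.hom).comp φ.hom := by
      rw [gMap_appLE]
      rfl
    refine (congrArg (fun ψ => Ideal.map ψ (RingHom.ker (iS.app V.1).hom)) h2).trans ?_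
    rw [← Ideal.map_map, ← hk]
    let e : B ≃+* Γ(Spec B, ⊤) := (Scheme.ΓSpecIso B).symm.commRingCatIsoToRingEquiv
    have h5 : ∀ x, (jMap W b).appTop.hom (e x) = (W.1.ι.appLE W.1 ⊤ (le_ι W)).hom (b.hom x) := fun x =>
      congrArg (fun ψ => ψ.hom x) (jMap_appTop W b)
    have hiso := isIso_ι_appLE W
    have h6 : Function.Injective (W.1.ι.appLE W.1 ⊤ (le_ι W)).hom :=
      (asIso (W.1.ι.appLE W.1 ⊤ (le_ι W))).commRingCatIsoToRingEquiv.injective
    ext y
    obtain ⟨x, rfl⟩ := e.surjective y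
    constructor
    · intro hy
      obtain ⟨z, hz, hz'⟩ := (Ideal.mem_map_iff_of_surjective (Scheme.ΓSpecIso B).inv.hom e.surjective).1 hy
      have h7 : z = x := e.injective hz'
      subst h7
      rw [RingHom.mem_ker] at hz ⊢
      refine (h5 z).trans ?_
      rw [hz]
      exact map_zero _
    · intro hy
      refine Ideal.mem_map_of_mem (Scheme.ΓSpecIso B).inv.hom ?_
      rw [RingHom.mem_ker] at hy ⊢
      have h8 := (h5 x).symm.trans hy
      exact h6 (h8.trans (map_zero _).symm)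

end Scheme

section Main

variable {X S Sl : Scheme.{u}} {r : ℕ}

/-- Pairs with charts lift locally along a thickening of the base, with smooth divisors. -/
theorem exists_lift (iS : S ⟶ Sl) [IsClosedImmersion iS] [Surjective iS] (f : X ⟶ S)
    {D : Fin r → X.IdealSheafData} (hD : HasCharts f D) (x : X) :
    ∃ W : X.Opens, x ∈ W ∧ ∃ (Ul : Scheme.{u}) (g : Ul ⟶ Sl) (j : (W : Scheme.{u}) ⟶ Ul),
      Smooth g ∧ IsPullback j (W.ι ≫ f) g iS ∧
        ∃ Dl : Fin r → Ul.IdealSheafData, ∀ m, (Dl m).comap j = (D m).comap W.ι ∧ Smooth ((Dl m).subschemeι ≫ g) := by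
  obtain ⟨V₀, W, hxW, -, ⟨c⟩⟩ := hD x ⊤ trivial
  obtain ⟨V, hV⟩ := exists_affineOpen iS V₀
  obtain rfl : V₀ = pre iS V := Subtype.ext hV.symm
  obtain ⟨B, _, φ, b, v, hb, hk, hc, hv, het⟩ := exists_etale_lift_coord (iS.app V.1).hom
    (Scheme.Hom.app_surjective iS V.1 V.2) (f.appLE (iS ⁻¹ᵁ V.1) W.1 c.le).hom c.v c.etale
  let φ' : Γ(Sl, V.1) ⟶ CommRingCat.of B := CommRingCat.ofHom φ
  let b' : CommRingCat.of B ⟶ Γ(X, W.1) := CommRingCat.ofHom b
  have hX : IsPullback (jMap W b') (W.1.ι ≫ f) (gMap V φ') iS := by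
    refine isPullback V φ' W b' iS f c.le hb hk ?_
    exact CommRingCat.hom_ext hc
  let ψ : B →+* Γ(Spec (CommRingCat.of B), ⊤) := (Scheme.ΓSpecIso (CommRingCat.of B)).inv.hom
  let e : B ≃+* Γ(Spec (CommRingCat.of B), ⊤) :=
    (Scheme.ΓSpecIso (CommRingCat.of B)).symm.commRingCatIsoToRingEquiv
  let I : Fin r → Ideal B := fun i => match c.e i with
    | none => ⊤
    | some k => Ideal.span {v k}
  let Dl : Fin r → (Spec (CommRingCat.of B)).IdealSheafData := fun i =>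
    Scheme.IdealSheafData.ofIdealTop ((I i).map ψ)
  have hDl : ∀ i, (Dl i).ideal ⟨⊤, isAffineOpen_top _⟩ = (I i).map ψ := fun i => by
    simp [Dl]
  let cl : LChart (gMap V φ') Dl V ⟨⊤, isAffineOpen_top _⟩ :=
    { le := le_gMap V φ'
      n := c.n
      v := fun k => ψ (v k)
      e := c.e
      inj := c.inj
      etale := by
        have h1 : MvPolynomial.eval₂Hom ((gMap V φ').appLE V.1 ⊤ (le_gMap V φ')).hom (fun k => ψ (v k)) =
            (e : B →+* _).comp (MvPolynomial.eval₂Hom φ v) := by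
          rw [gMap_appLE]
          apply MvPolynomial.ringHom_ext
          · intro s
            simp only [MvPolynomial.coe_eval₂Hom, MvPolynomial.eval₂_C, RingHom.comp_apply]
            rfl
          · intro k
            simp only [MvPolynomial.coe_eval₂Hom, MvPolynomial.eval₂_X, RingHom.comp_apply]
            rfl
        rw [h1]
        exact RingHom.Etale.respectsIso.1 _ e het
      ideal_none := fun i hi => by
        rw [hDl]
        simp only [I, hi]
        exact Ideal.map_top _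
      ideal_some := fun i k hi => by
        rw [hDl]
        simp only [I, hi]
        rw [Ideal.map_span, Set.image_singleton] }
  have hsm : Smooth (gMap V φ') := by
    have h1 := cl.smooth
    rw [HasRingHomProperty.iff_exists_appLE (P := @Smooth)
      (RingHom.Smooth.stableUnderComposition.stableUnderCompositionWithLocalizationAway
        RingHom.Smooth.holdsForLocalizationAway).1]
    intro y
    exact ⟨V, ⟨⊤, isAffineOpen_top _⟩, trivial, cl.le, h1⟩
  refine ⟨W.1, hxW, Spec (CommRingCat.of B), gMap V φ', jMap W b', hsm, hX, Dl, fun m => ⟨?_, ?_⟩⟩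
  · have : IsAffine (W.1 : Scheme.{u}) := W.2
    apply Scheme.IdealSheafData.ext_of_isAffine
    rw [ideal_comap_top, hDl, ideal_comap (D m) W.1.ι W ⟨⊤, isAffineOpen_top _⟩ (le_ι W), Ideal.map_map]
    have h5 : ((jMap W b').appTop.hom).comp ψ = (W.1.ι.appLE W.1 ⊤ (le_ι W)).hom.comp b :=
      congrArg CommRingCat.Hom.hom (jMap_appTop W b')
    rw [h5, ← Ideal.map_map]
    congr 1
    rcases hi : c.e m with _ | k
    · rw [c.ideal_none m hi]
      simp only [I, hi]
      exact Ideal.map_top _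
    · rw [c.ideal_some m k hi]
      simp only [I, hi]
      rw [Ideal.map_span, Set.image_singleton, hv]
  · apply K27.Strata.smooth_subscheme
    intro y _
    exact ⟨⟨⊤, isAffineOpen_top _⟩, V, cl.le, trivial, cl.smooth_quotient m⟩

end Main

end K235.LocLift
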