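import Groth.Agent.Lift.K235.Nbhd
import Groth.Agent.Lift.K235.LinLift
import Groth.Agent.Lift.K235.LocLift

/-!
# Lifting morphisms compatibly with divisors

`X ⊂ X₁` the reduction modulo `p` of a scheme on which `p² = 0` and `Ann p = (p)`, `X` and `X₁` affine and Noetherian, `X₂` affine over `S` with a family
`D₂` of divisors having étale charts.  A morphism `φ : X ⟶ X₂` over `S` such that the pull-backs of the `D₂ i` are the reductions of
effective Cartier divisors `E i` of `X₁` lifts to `F : X₁ ⟶ X₂` over `S` with `F^* (D₂ i) = E i`.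
-/

set_option autoImplicit false
universe u

open CategoryTheory CategoryTheory.Limits AlgebraicGeometry TopologicalSpace

namespace K235.LogLift

open K235.Thick K235.Alg K235.Chart K235.LocLift Groth.Agent.Divis.IdealComap

section Ring

/-- Lifting along étale coordinates. -/
theorem exists_ringHom {A B R R₀ : Type u} [CommRing A] [CommRing B] [CommRing R] [CommRing R₀] (α : A →+* B)
    {n : ℕ} (v : Fin n → B) (het : (MvPolynomial.eval₂Hom α v).Etale) (ρ : A →+* R) (π : R →+* R₀)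
    (hπ : Function.Surjective π) (hn : IsNilpotent (RingHom.ker π)) (φ₀ : B →+* R₀)
    (hc : φ₀.comp α = π.comp ρ) (z : Fin n → R) (hz : ∀ k, π (z k) = φ₀ (v k)) :
    ∃ h : B →+* R, h.comp α = ρ ∧ π.comp h = φ₀ ∧ ∀ k, h (v k) = z k := by
  let P := MvPolynomial (Fin n) A
  let _ : Algebra P B := (MvPolynomial.eval₂Hom α v).toAlgebra
  let _ : Algebra P R := (MvPolynomial.eval₂Hom ρ z).toAlgebra
  let _ : Algebra P R₀ := (π.comp (MvPolynomial.eval₂Hom ρ z)).toAlgebra
  have hE : Algebra.Etale P B := het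
  have h1 : φ₀.comp (MvPolynomial.eval₂Hom α v) = π.comp (MvPolynomial.eval₂Hom ρ z) := by
    apply MvPolynomial.ringHom_ext
    · intro a
      have := congrArg (fun f => f a) hc
      simpa using this
    · intro k
      simpa using (hz k).symm
  let f : B →ₐ[P] R₀ := { φ₀ with commutes' := fun q => congrArg (fun f => f q) h1 }
  let g : R →ₐ[P] R₀ := { π with commutes' := fun q => rfl }
  let θ : B →ₐ[P] R := Algebra.FormallySmooth.liftOfSurjective f g hπ hn
  have hθ : ∀ x, π (θ x) = φ₀ x := fun x => Algebra.FormallySmooth.liftOfSurjective_apply f g hπ hn x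
  refine ⟨θ.toRingHom, ?_, ?_, ?_⟩
  · ext a
    have h2 := θ.commutes (MvPolynomial.C a)
    have h3 : algebraMap P B (MvPolynomial.C a) = α a := by
      change MvPolynomial.eval₂Hom α v (MvPolynomial.C a) = _
      simp
    have h4 : algebraMap P R (MvPolynomial.C a) = ρ a := by
      change MvPolynomial.eval₂Hom ρ z (MvPolynomial.C a) = _
      simp
    rw [h3, h4] at h2
    exact h2
  · ext x
    exact hθ x
  · intro k
    have h2 := θ.commutes (MvPolynomial.X k)
    have h3 : algebraMap P B (MvPolynomial.X k) = v k := by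
      change MvPolynomial.eval₂Hom α v (MvPolynomial.X k) = _
      simp
    have h4 : algebraMap P R (MvPolynomial.X k) = z k := by
      change MvPolynomial.eval₂Hom ρ z (MvPolynomial.X k) = _
      simp
    rw [h3, h4] at h2
    exact h2

theorem mem_nonZeroDivisors_of_span_eq {B : Type*} [CommRing B] {a b : B} (h : Ideal.span {a} = Ideal.span {b})
    (hb : b ∈ nonZeroDivisors B) : a ∈ nonZeroDivisors B := by
  rw [mem_nonZeroDivisors_iff_right] at hb ⊢
  intro x hx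
  obtain ⟨c, hc⟩ := Ideal.mem_span_singleton'.1 (h.symm ▸ Ideal.mem_span_singleton_self b : b ∈ Ideal.span {a})
  refine hb x ?_
  rw [← hc, mul_left_comm, hx, mul_zero]

end Ring

variable {X X₁ X₂ S : Scheme.{u}} {r : ℕ}

/-- The ideals `E i` are generated on `U` by elements which are nonzerodivisors on `X`. -/
def GenAt (j : X ⟶ X₁) (E : Fin r → X₁.IdealSheafData) (U : X₁.affineOpens) : Prop :=
  ∀ i, ∃ ε : Γ(X₁, U.1), (E i).ideal U = Ideal.span {ε} ∧ (j.app U.1).hom ε ∈ nonZeroDivisors Γ(X, j ⁻¹ᵁ U.1)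

theorem GenAt.mono {j : X ⟶ X₁} [IsAffineHom j] {E : Fin r → X₁.IdealSheafData} {U V : X₁.affineOpens}
    (h : GenAt j E U) (hVU : V.1 ≤ U.1) : GenAt j E V := by
  intro i
  obtain ⟨ε, h1, h2⟩ := h i
  refine ⟨(X₁.presheaf.map (homOfLE hVU).op).hom ε, ?_, ?_⟩
  · have h3 := (E i).map_ideal (U := V) (V := U) hVU
    rw [h1, Ideal.map_span, Set.image_singleton] at h3
    exact h3.symm
  · have h3 : (j.app V.1).hom ((X₁.presheaf.map (homOfLE hVU).op).hom ε) =
        (X.presheaf.map (homOfLE (j.preimage_mono hVU)).op).hom ((j.app U.1).hom ε) :=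
      congrArg (fun f => f.hom ε) (j.naturality (homOfLE hVU).op)
    rw [h3]
    exact Groth.Agent.Divis.EffCartier.res_mem_nonZeroDivisors (U.2.preimage j) (V.2.preimage j) _ h2

/-- Local lifts. -/
theorem exists_local {p : ℕ} {g₁ : X₁ ⟶ S} {g₂ : X₂ ⟶ S} {j : X ⟶ X₁} (hj : IsRed p j) {φ : X ⟶ X₂}
    (w : j ≫ g₁ = φ ≫ g₂) {D₂ : Fin r → X₂.IdealSheafData} {E : Fin r → X₁.IdealSheafData}
    (hDE : ∀ i, (D₂ i).comap φ = (E i).comap j) {V : S.affineOpens} {W₂ : X₂.affineOpens}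
    (c : LChart g₂ D₂ V W₂) (U : X₁.affineOpens) (hU : U.1 ≤ g₁ ⁻¹ᵁ V.1) (hUW : j ⁻¹ᵁ U.1 ≤ φ ⁻¹ᵁ W₂.1)
    (hE : GenAt j E U) :
    ∃ h : Γ(X₂, W₂.1) ⟶ Γ(X₁, U.1), g₂.appLE V.1 W₂.1 c.le ≫ h = g₁.appLE V.1 U.1 hU ∧
      h ≫ j.app U.1 = φ.appLE W₂.1 (j ⁻¹ᵁ U.1) hUW ∧
      ∀ i, ((D₂ i).ideal W₂).map h.hom ≤ (E i).ideal U := by
  classical
  have := hj.closed
  have hsj : Function.Surjective (j.app U.1).hom := Scheme.Hom.app_surjective j U.1 U.2
  have hnj := hj.isNilpotent U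
  let φ₀ := (φ.appLE W₂.1 (j ⁻¹ᵁ U.1) hUW).hom
  have hmap : ∀ i, ((D₂ i).ideal W₂).map φ₀ = ((E i).ideal U).map (j.app U.1).hom := by
    intro i
    have h1 := congrArg (fun I => I.ideal (pre j U)) (hDE i)
    exact (ideal_comap (D₂ i) φ W₂ (pre j U) hUW).symm.trans (h1.trans (ideal_pre_eq (E i) U))
  choose ε hε hε' using hE
  have hz : ∀ k : Fin c.n, ∃ z : Γ(X₁, U.1), (j.app U.1).hom z = φ₀ (c.v k) ∧
      ∀ i, c.e i = some k → (E i).ideal U = Ideal.span {z} := by
    intro k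
    by_cases hk : ∃ i, c.e i = some k
    · obtain ⟨i, hi⟩ := hk
      have h1 := hmap i
      rw [c.ideal_some i k hi, hε i, Ideal.map_span, Ideal.map_span, Set.image_singleton, Set.image_singleton] at h1
      obtain ⟨z, hz, hz'⟩ := exists_lift_generator hsj hnj (ε i) (φ₀ (c.v k)) h1
        (mem_nonZeroDivisors_of_span_eq h1 (hε' i))
      refine ⟨z, hz, fun i' hi' => ?_⟩
      obtain rfl := c.inj i i' k hi hi'
      rw [hε i, hz']
    · obtain ⟨z, hz⟩ := hsj (φ₀ (c.v k))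
      exact ⟨z, hz, fun i hi => (hk ⟨i, hi⟩).elim⟩
  choose z hz hz' using hz
  have hcomm : φ₀.comp (g₂.appLE V.1 W₂.1 c.le).hom = (j.app U.1).hom.comp (g₁.appLE V.1 U.1 hU).hom := by
    have h1 : g₂.appLE V.1 W₂.1 c.le ≫ φ.appLE W₂.1 (j ⁻¹ᵁ U.1) hUW = g₁.appLE V.1 U.1 hU ≫ j.app U.1 := by
      rw [Scheme.Hom.app_eq_appLE, Scheme.Hom.appLE_comp_appLE, Scheme.Hom.appLE_comp_appLE]
      congr 1
      exact w.symm
    exact congrArg CommRingCat.Hom.hom h1
  obtain ⟨h, h1, h2, h3⟩ := exists_ringHom (g₂.appLE V.1 W₂.1 c.le).hom c.v c.etale (g₁.appLE V.1 U.1 hU).hom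
    (j.app U.1).hom hsj hnj φ₀ hcomm z hz
  refine ⟨CommRingCat.ofHom h, CommRingCat.hom_ext h1, CommRingCat.hom_ext h2, fun i => ?_⟩
  change ((D₂ i).ideal W₂).map h ≤ _
  rcases hi : c.e i with _ | k
  · have h4 := hmap i
    rw [c.ideal_none i hi, Ideal.map_top] at h4
    rw [ideal_eq_top_of_map hsj hnj _ h4.symm]
    exact le_top
  · rw [c.ideal_some i k hi, Ideal.map_span, Set.image_singleton, h3, hz' k i hi]

theorem spec_ker_mul {R R' : CommRingCat.{u}} (ψ : R ⟶ R') (h : RingHom.ker ψ.hom * RingHom.ker ψ.hom = ⊥) :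
    (Spec.map ψ).ker * (Spec.map ψ).ker = ⊥ := by
  apply Scheme.IdealSheafData.ext_of_isAffine
  rw [Scheme.IdealSheafData.ideal_mul, Pi.mul_apply, Scheme.Hom.ker_apply, Scheme.IdealSheafData.ideal_bot,
    Pi.bot_apply, ← le_bot_iff, Ideal.mul_le]
  let e := (Scheme.ΓSpecIso R).commRingCatIsoToRingEquiv
  have h1 : ∀ x, (Spec.map ψ).appTop.hom x = 0 → ψ.hom (e x) = 0 := by
    intro x hx
    have h2 : (Scheme.ΓSpecIso R').hom.hom ((Spec.map ψ).appTop.hom x) = ψ.hom (e x) :=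
      congrArg (fun f => f.hom x) (Scheme.ΓSpecIso_naturality ψ)
    rw [← h2, hx, map_zero]
  intro x hx y hy
  rw [Ideal.mem_bot]
  apply e.injective
  rw [map_mul, map_zero]
  have h2 := Ideal.mul_mem_mul (show e x ∈ RingHom.ker ψ.hom from h1 x hx) (show e y ∈ RingHom.ker ψ.hom from h1 y hy)
  rwa [h, Ideal.mem_bot] at h2

theorem fromSpec_appTop (U : X.affineOpens) :
    U.2.fromSpec.appTop = X.presheaf.map (homOfLE le_top).op ≫ (Scheme.ΓSpecIso Γ(X, U.1)).inv := by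
  have h1 := IsAffineOpen.fromSpec_app_of_le U.2 ⊤ le_top
  refine Eq.trans h1 ?_
  refine congrArg (X.presheaf.map (homOfLE le_top).op ≫ ·) ?_
  refine Eq.trans ?_ (Category.comp_id _)
  refine congrArg ((Scheme.ΓSpecIso Γ(X, U.1)).inv ≫ ·) ?_
  exact (congrArg _ (Subsingleton.elim _ _)).trans ((Spec Γ(X, U.1)).presheaf.map_id _)

theorem exists_open (j : X ⟶ X₁) [IsClosedImmersion j] [Surjective j] (U : X.Opens) :
    ∃ V : X₁.Opens, j ⁻¹ᵁ V = U := by
  let e : X ≃ₜ X₁ := j.isClosedEmbedding.isEmbedding.toHomeomorphOfSurjective j.surjective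
  refine ⟨⟨e '' (U : Set X), e.isOpenMap _ U.2⟩, ?_⟩
  ext x
  change e x ∈ e '' (U : Set X) ↔ x ∈ U
  exact e.injective.mem_set_image

end K235.LogLift
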