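import Groth.Agent.Lift.K235.LogLift

/-!
# Log lifts exist over affine schemes
-/

set_option autoImplicit false
universe u

open CategoryTheory CategoryTheory.Limits AlgebraicGeometry TopologicalSpace

namespace K235.LogMain

open K235.Thick K235.Alg K235.Chart K235.LocLift K235.LogLift Groth.Agent.Divis.IdealComap

/-- A ring with a square-zero ideal which is finitely generated and has Noetherian quotient is Noetherian. -/
theorem isNoetherianRing_of_sq_zero {R R₀ : Type*} [CommRing R] [CommRing R₀] [IsNoetherianRing R₀] (π : R →+* R₀)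
    (hπ : Function.Surjective π) (p : R) (hk : RingHom.ker π = Ideal.span {p}) (hp : p * p = 0) :
    IsNoetherianRing R := by
  rw [isNoetherianRing_iff_ideal_fg]
  intro I
  -- `I ∩ (p)` and the image of `I`
  have h1 : (I.map π).FG := (isNoetherianRing_iff_ideal_fg R₀).1 inferInstance _
  let I' : Ideal R := {
    carrier := {x | p * x ∈ I}
    add_mem' := fun {x y} hx hy => by
      change p * (x + y) ∈ I
      rw [mul_add]
      exact I.add_mem hx hy
    zero_mem' := by simp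
    smul_mem' := fun c x hx => by
      change p * (c • x) ∈ I
      rw [smul_eq_mul, mul_left_comm]
      exact I.mul_mem_left _ hx }
  have h2 : (I'.map π).FG := (isNoetherianRing_iff_ideal_fg R₀).1 inferInstance _
  obtain ⟨s, hs⟩ := h1
  obtain ⟨t, ht⟩ := h2
  classical
  have hs' : ∀ y ∈ s, ∃ x ∈ I, π x = y := fun y hy =>
    (Ideal.mem_map_iff_of_surjective π hπ).1 (hs ▸ Ideal.subset_span hy)
  have ht' : ∀ y ∈ t, ∃ x ∈ I', π x = y := fun y hy =>
    (Ideal.mem_map_iff_of_surjective π hπ).1 (ht ▸ Ideal.subset_span hy)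
  choose! f hf hf' using hs'
  choose! g hg hg' using ht'
  refine ⟨s.image f ∪ t.image (fun y => p * g y), le_antisymm ?_ ?_⟩
  · rw [Ideal.span_le]
    intro x hx
    simp only [Finset.coe_union, Finset.coe_image, Set.mem_union, Set.mem_image, Finset.mem_coe] at hx
    rcases hx with ⟨y, hy, rfl⟩ | ⟨y, hy, rfl⟩
    · exact hf y hy
    · exact hg y hy
  · set J := Ideal.span ((s.image f ∪ t.image (fun y => p * g y) : Finset R) : Set R) with hJ
    have h3 : ∀ y ∈ Ideal.span (s : Set R₀), ∃ x ∈ J, π x = y := by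
      intro y hy
      have h4 : Ideal.span (s : Set R₀) ≤ J.map π := by
        rw [Ideal.span_le]
        intro z hz
        rw [← hf' z hz]
        refine Ideal.mem_map_of_mem π (Ideal.subset_span ?_)
        simp only [Finset.coe_union, Finset.coe_image, Set.mem_union, Set.mem_image, Finset.mem_coe]
        exact Or.inl ⟨z, hz, rfl⟩
      exact (Ideal.mem_map_iff_of_surjective π hπ).1 (h4 hy)
    have h5 : ∀ x ∈ I', p * x ∈ J := by
      intro x hx
      have h6 : π x ∈ Ideal.span (t : Set R₀) := by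
        rw [ht]
        exact Ideal.mem_map_of_mem π hx
      have h7 : Ideal.span (t : Set R₀) ≤ (Ideal.span (g '' (t : Set R₀))).map π := by
        rw [Ideal.span_le]
        intro z hz
        rw [← hg' z hz]
        exact Ideal.mem_map_of_mem π (Ideal.subset_span ⟨z, hz, rfl⟩)
      obtain ⟨y, hy, hy'⟩ := (Ideal.mem_map_iff_of_surjective π hπ).1 (h7 h6)
      have h8 : x - y ∈ RingHom.ker π := by rw [RingHom.mem_ker, map_sub, hy', sub_self]
      rw [hk] at h8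
      obtain ⟨a, ha⟩ := Ideal.mem_span_singleton'.1 h8
      have h9 : p * x = p * y := by
        have : p * (x - y) = 0 := by rw [← ha, mul_left_comm, hp, mul_zero]
        rw [mul_sub, sub_eq_zero] at this
        exact this
      rw [h9]
      refine Submodule.span_induction (p := fun y _ => p * y ∈ J) ?_ ?_ ?_ ?_ hy
      · rintro _ ⟨z, hz, rfl⟩
        refine Ideal.subset_span ?_
        simp only [Finset.coe_union, Finset.coe_image, Set.mem_union, Set.mem_image, Finset.mem_coe]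
        exact Or.inr ⟨z, hz, rfl⟩
      · rw [mul_zero]; exact J.zero_mem
      · intro a b _ _ ha hb
        rw [mul_add]
        exact J.add_mem ha hb
      · intro a b _ hb
        rw [smul_eq_mul, mul_left_comm]
        exact J.mul_mem_left _ hb
    have hJI : J ≤ I := by
      rw [hJ, Ideal.span_le]
      intro x hx
      simp only [Finset.coe_union, Finset.coe_image, Set.mem_union, Set.mem_image, Finset.mem_coe] at hx
      rcases hx with ⟨y, hy, rfl⟩ | ⟨y, hy, rfl⟩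
      · exact hf y hy
      · exact hg y hy
    intro x hx
    obtain ⟨y, hy, hy'⟩ := h3 (π x) (by rw [hs]; exact Ideal.mem_map_of_mem π hx)
    have h8 : x - y ∈ RingHom.ker π := by rw [RingHom.mem_ker, map_sub, hy', sub_self]
    rw [hk] at h8
    obtain ⟨a, ha⟩ := Ideal.mem_span_singleton'.1 h8
    have h10 : p * a ∈ J := h5 a (by
      change p * a ∈ I
      rw [mul_comm, ha]
      exact I.sub_mem hx (hJI hy))
    have h11 : x = y + p * a := by
      rw [mul_comm p a, ha]; ring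
    rw [h11]
    exact J.add_mem hy h10

variable {X X₁ X₂ S : Scheme.{u}} {r : ℕ}

theorem exists_log_lift (p : ℕ) [IsAffine X] [IsAffine X₁] [IsAffine X₂] [IsNoetherian X] (g₁ : X₁ ⟶ S) (g₂ : X₂ ⟶ S)
    (j : X ⟶ X₁) (hj : IsRed p j) (φ : X ⟶ X₂) (w : j ≫ g₁ = φ ≫ g₂) (D₂ : Fin r → X₂.IdealSheafData)
    (hD₂ : HasCharts g₂ D₂) (E : Fin r → X₁.IdealSheafData)
    (hE : ∀ x : X₁, ∃ U : X₁.affineOpens, x ∈ U.1 ∧ GenAt j E U)
    (hDE : ∀ i, (D₂ i).comap φ = (E i).comap j) :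
    ∃ F : X₁ ⟶ X₂, j ≫ F = φ ∧ F ≫ g₂ = g₁ ∧ ∀ i, (D₂ i).comap F = E i := by
  have hjc := hj.closed
  have hjs := hj.surjective
  have hg₂ : Smooth g₂ := hD₂.smooth
  obtain ⟨Y, t, q₁, q₂, ht, htt, hq, htq₁, htq₂, hlft, huniv⟩ := Nbhd.exists_nbhd g₁ g₂ j φ w
  have hts : Surjective t := surjective_of_sq t htt
  have hY : IsAffine Y := Groth.Agent.Flat2C.AffineThickening.isAffine_of_thickening t
  let e₁ : X₁.affineOpens := ⟨⊤, isAffineOpen_top X₁⟩
  let eY : Y.affineOpens := ⟨⊤, isAffineOpen_top Y⟩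
  let π := j.appTop.hom
  have hπ : Function.Surjective π := (IsClosedImmersion.isAffine_surjective_of_isAffine j).2
  have hkπ : RingHom.ker π = Ideal.span {(p : Γ(X₁, ⊤))} := hj.ker_app e₁
  let τ := t.appTop.hom
  have hτ : Function.Surjective τ := (IsClosedImmersion.isAffine_surjective_of_isAffine t).2
  let _ : Algebra Γ(X₁, ⊤) Γ(Y, ⊤) := q₁.appTop.hom.toAlgebra
  have halg : ∀ s : Γ(X₁, ⊤), algebraMap Γ(X₁, ⊤) Γ(Y, ⊤) s = q₁.appTop.hom s := fun s => rfl
  have hτπ : ∀ s : Γ(X₁, ⊤), τ (algebraMap Γ(X₁, ⊤) Γ(Y, ⊤) s) = π s := by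
    intro s
    have h1 : (t ≫ q₁).appTop = q₁.appTop ≫ t.appTop := Scheme.Hom.comp_appTop _ _
    rw [htq₁] at h1
    exact (congrArg (fun f => f.hom s) h1).symm
  have hRn : IsNoetherianRing Γ(X₁, ⊤) := by
    have h1 : IsNoetherianRing Γ(X, ⊤) := IsLocallyNoetherian.component_noetherian ⟨⊤, isAffineOpen_top X⟩
    exact isNoetherianRing_of_sq_zero π hπ (p : Γ(X₁, ⊤)) hkπ (hj.sq e₁)
  have hCn : IsNoetherianRing Γ(Y, ⊤) := by
    have h1 : q₁.appTop.hom.FiniteType := HasRingHomProperty.appTop (P := @LocallyOfFiniteType) q₁ hlft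
    have h2 : Algebra.FiniteType Γ(X₁, ⊤) Γ(Y, ⊤) := h1
    exact Algebra.FiniteType.isNoetherianRing Γ(X₁, ⊤) Γ(Y, ⊤)
  let K : Ideal Γ(Y, ⊤) := RingHom.ker τ
  have hK : K * K = ⊥ := by
    have h1 := congrArg (fun I => I.ideal eY) htt
    simp only [Scheme.IdealSheafData.ideal_mul, Pi.mul_apply, Scheme.IdealSheafData.ideal_bot, Pi.bot_apply,
      Scheme.Hom.ker_apply] at h1
    exact h1
  have hK₁e : K.comap (algebraMap Γ(X₁, ⊤) Γ(Y, ⊤)) = RingHom.ker π := by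
    ext s
    rw [Ideal.mem_comap, RingHom.mem_ker, hτπ, RingHom.mem_ker]
  have hK₁ : K.comap (algebraMap Γ(X₁, ⊤) Γ(Y, ⊤)) * K.comap (algebraMap Γ(X₁, ⊤) Γ(Y, ⊤)) = ⊥ := by
    rw [hK₁e, hkπ, Ideal.span_singleton_mul_span_singleton]
    exact Ideal.span_singleton_eq_bot.2 (hj.sq e₁)
  have hs : ∀ c : Γ(Y, ⊤), ∃ s : Γ(X₁, ⊤), c - algebraMap Γ(X₁, ⊤) Γ(Y, ⊤) s ∈ K := by
    intro c
    obtain ⟨s, hs⟩ := hπ (τ c)
    exact ⟨s, by rw [RingHom.mem_ker, map_sub, hτπ, hs, sub_self]⟩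
  let J : Fin r → Ideal Γ(Y, ⊤) := fun i => ((D₂ i).comap q₂).ideal eY
  let E' : Fin r → Ideal Γ(X₁, ⊤) := fun i => (E i).ideal e₁
  have hJ : ∀ i, J i ≤ (E' i).map (algebraMap Γ(X₁, ⊤) Γ(Y, ⊤)) ⊔ K := by
    intro i
    have h1 : (J i).map τ = (E' i).map π := by
      have h2 : ((D₂ i).comap q₂).comap t = (E i).comap j := by
        rw [← Scheme.IdealSheafData.comap_comp, htq₂, hDE i]
      have h3 := congrArg (fun I => I.ideal ⟨⊤, isAffineOpen_top X⟩) h2
      exact (ideal_comap_top ((D₂ i).comap q₂) t).symm.trans (h3.trans (ideal_comap_top (E i) j))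
    have h4 : (E' i).map π = ((E' i).map (algebraMap Γ(X₁, ⊤) Γ(Y, ⊤))).map τ := by
      rw [Ideal.map_map]
      congr 1
      ext s
      exact (hτπ s).symm
    have h5 : J i ≤ (((E' i).map (algebraMap Γ(X₁, ⊤) Γ(Y, ⊤))).map τ).comap τ := by
      rw [← h4, ← h1]
      exact Ideal.le_comap_map
    rwa [Ideal.comap_map_of_surjective τ hτ, ← RingHom.ker_eq_comap_bot] at h5
  have hloc : ∀ P : Ideal Γ(X₁, ⊤), P.IsPrime → ∃ c : Γ(X₁, ⊤), c ∉ P ∧ ∃ (Rc : Type u) (_ : CommRing Rc)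
      (_ : Algebra Γ(X₁, ⊤) Rc) (_ : IsLocalization.Away c Rc) (h : Γ(Y, ⊤) →ₐ[Γ(X₁, ⊤)] Rc),
      (∀ k ∈ K, h k ∈ (K.comap (algebraMap Γ(X₁, ⊤) Γ(Y, ⊤))).map (algebraMap Γ(X₁, ⊤) Rc)) ∧
      ∀ i, ∀ x ∈ J i, h x ∈ (E' i).map (algebraMap Γ(X₁, ⊤) Rc) := by
    intro P hP
    let x₁ : X₁ := (isAffineOpen_top X₁).fromSpec ⟨P, hP⟩
    obtain ⟨x, hx⟩ := j.surjective x₁
    obtain ⟨V, W₂, hxW₂, -, ⟨c⟩⟩ := hD₂ (φ x) ⊤ trivial
    obtain ⟨U₀, hxU₀, hU₀⟩ := hE x₁
    obtain ⟨O₁, hO₁⟩ := exists_open j (φ ⁻¹ᵁ W₂.1)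
    have hx1 : x₁ ∈ O₁ := by
      rw [← hx]
      change x ∈ j ⁻¹ᵁ O₁
      rw [hO₁]
      exact hxW₂
    have hx2 : x₁ ∈ g₁ ⁻¹ᵁ V.1 := by
      rw [← hx]
      change (j ≫ g₁) x ∈ V.1
      rw [w]
      exact c.le hxW₂
    obtain ⟨c', hc', hxc'⟩ := (isAffineOpen_top X₁).exists_basicOpen_le (V := O₁ ⊓ U₀.1 ⊓ g₁ ⁻¹ᵁ V.1)
      ⟨x₁, ⟨hx1, hxU₀⟩, hx2⟩ trivial
    let U : X₁.affineOpens := ⟨X₁.basicOpen c', (isAffineOpen_top X₁).basicOpen c'⟩
    have hU1 : U.1 ≤ O₁ := hc'.trans (inf_le_left.trans inf_le_left)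
    have hU2 : U.1 ≤ U₀.1 := hc'.trans (inf_le_left.trans inf_le_right)
    have hU3 : U.1 ≤ g₁ ⁻¹ᵁ V.1 := hc'.trans inf_le_right
    have hUW : j ⁻¹ᵁ U.1 ≤ φ ⁻¹ᵁ W₂.1 := by
      rw [← hO₁]
      exact j.preimage_mono hU1
    obtain ⟨h₀, hh1, hh2, hh3⟩ := exists_local hj w hDE c U hU3 hUW (hU₀.mono hU2)
    have hsj : Function.Surjective (j.app U.1).hom := Scheme.Hom.app_surjective j U.1 U.2
    -- the morphism to the first-order neighbourhood
    have hi1 : IsClosedImmersion (Spec.map (j.app U.1)) := IsClosedImmersion.spec_of_surjective _ hsj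
    have hi2 : (Spec.map (j.app U.1)).ker * (Spec.map (j.app U.1)).ker = ⊥ := by
      apply spec_ker_mul
      rw [hj.ker_app U, Ideal.span_singleton_mul_span_singleton]
      exact Ideal.span_singleton_eq_bot.2 (hj.sq U)
    have hUj : IsAffineOpen (j ⁻¹ᵁ U.1) := U.2.preimage j
    have hab : U.2.fromSpec ≫ g₁ = gMap W₂ h₀ ≫ g₂ := by
      rw [← IsAffineOpen.SpecMap_appLE_fromSpec g₁ V.2 U.2 hU3, Category.assoc,
        ← IsAffineOpen.SpecMap_appLE_fromSpec g₂ V.2 W₂.2 c.le, ← Spec.map_comp_assoc, hh1]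
    have hia : Spec.map (j.app U.1) ≫ U.2.fromSpec = hUj.fromSpec ≫ j := by
      rw [← IsAffineOpen.SpecMap_appLE_fromSpec j U.2 hUj le_rfl]
      congr 2
      exact Scheme.Hom.app_eq_appLE j
    have hib : Spec.map (j.app U.1) ≫ gMap W₂ h₀ = hUj.fromSpec ≫ φ := by
      rw [← IsAffineOpen.SpecMap_appLE_fromSpec φ W₂.2 hUj hUW, ← hh2, Spec.map_comp_assoc]
    obtain ⟨cc, hcc1, hcc2, hcc3⟩ := huniv (Spec Γ(X, j ⁻¹ᵁ U.1)) (Spec Γ(X₁, U.1)) (Spec.map (j.app U.1)) hi1 hi2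
      U.2.fromSpec (gMap W₂ h₀) hUj.fromSpec hab hia hib
    -- the ring map
    let res : Γ(X₁, ⊤) ⟶ Γ(X₁, U.1) := X₁.presheaf.map (homOfLE le_top).op
    let hr : Γ(Y, ⊤) ⟶ Γ(X₁, U.1) := cc.appTop ≫ (Scheme.ΓSpecIso Γ(X₁, U.1)).hom
    have hrr : q₁.appTop ≫ hr = res := by
      have h1 : (cc ≫ q₁).appTop = q₁.appTop ≫ cc.appTop := Scheme.Hom.comp_appTop _ _
      rw [hcc1] at h1
      have h2 := fromSpec_appTop U
      have h3 : q₁.appTop ≫ hr = (q₁.appTop ≫ cc.appTop) ≫ (Scheme.ΓSpecIso Γ(X₁, U.1)).hom :=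
        (Category.assoc _ _ _).symm
      rw [h3, ← h1, h2, Category.assoc, Iso.inv_hom_id, Category.comp_id]
    let _ : Algebra Γ(X₁, ⊤) Γ(X₁, U.1) := res.hom.toAlgebra
    have hlocU : IsLocalization.Away c' Γ(X₁, U.1) := (isAffineOpen_top X₁).isLocalization_basicOpen c'
    let h : Γ(Y, ⊤) →ₐ[Γ(X₁, ⊤)] Γ(X₁, U.1) :=
      { hr.hom with commutes' := fun s => congrArg (fun f => f.hom s) hrr }
    have hh : ∀ y, h y = hr.hom y := fun y => rfl
    refine ⟨c', ?_, Γ(X₁, U.1), inferInstance, inferInstance, hlocU, h, ?_, ?_⟩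
    · have h1 : (⟨P, hP⟩ : PrimeSpectrum Γ(X₁, ⊤)) ∈ (isAffineOpen_top X₁).fromSpec ⁻¹ᵁ X₁.basicOpen c' := hxc'
      rw [IsAffineOpen.fromSpec_preimage_basicOpen] at h1
      exact h1
    · intro k hk
      have h1 : (j.app U.1).hom (h k) = 0 := by
        have h2 : (Spec.map (j.app U.1) ≫ cc).appTop = cc.appTop ≫ (Spec.map (j.app U.1)).appTop :=
          Scheme.Hom.comp_appTop _ _
        have h3 : (hUj.fromSpec ≫ t).appTop = t.appTop ≫ hUj.fromSpec.appTop := Scheme.Hom.comp_appTop _ _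
        have h4 : (Spec.map (j.app U.1)).appTop ≫ (Scheme.ΓSpecIso Γ(X, j ⁻¹ᵁ U.1)).hom =
            (Scheme.ΓSpecIso Γ(X₁, U.1)).hom ≫ j.app U.1 := Scheme.ΓSpecIso_naturality _
        have h5 : hr ≫ j.app U.1 = (t.appTop ≫ hUj.fromSpec.appTop) ≫ (Scheme.ΓSpecIso Γ(X, j ⁻¹ᵁ U.1)).hom := by
          rw [← h3, ← hcc3, h2, Category.assoc, Category.assoc, h4]
        have h6 := congrArg (fun f => f.hom k) h5
        refine h6.trans ?_
        change (Scheme.ΓSpecIso Γ(X, j ⁻¹ᵁ U.1)).hom.hom (hUj.fromSpec.appTop.hom (τ k)) = 0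
        rw [(RingHom.mem_ker (f := τ)).1 hk, map_zero, map_zero]
      rw [← RingHom.mem_ker, hj.ker_app U] at h1
      rw [hK₁e, hkπ, Ideal.map_span, Set.image_singleton, map_natCast]
      exact h1
    · intro i y hy
      have h1 : (E' i).map (algebraMap Γ(X₁, ⊤) Γ(X₁, U.1)) = (E i).ideal U :=
        (E i).map_ideal (U := U) (V := e₁) (show U.1 ≤ e₁.1 from le_top)
      rw [h1]
      refine hh3 i ?_
      have h2 : ((D₂ i).comap q₂).comap cc = (D₂ i).comap (gMap W₂ h₀) := by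
        rw [← Scheme.IdealSheafData.comap_comp, hcc2]
      have h3 := congrArg (fun I => I.ideal ⟨⊤, isAffineOpen_top _⟩) h2
      have h4 : (J i).map cc.appTop.hom = ((D₂ i).ideal W₂).map ((gMap W₂ h₀).appLE W₂.1 ⊤ (le_gMap W₂ h₀)).hom :=
        (ideal_comap_top ((D₂ i).comap q₂) cc).symm.trans (h3.trans
          (ideal_comap (D₂ i) (gMap W₂ h₀) W₂ ⟨⊤, isAffineOpen_top _⟩ (le_gMap W₂ h₀)))
      rw [gMap_appLE] at h4
      have h5 : cc.appTop.hom y ∈ (J i).map cc.appTop.hom := Ideal.mem_map_of_mem _ hy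
      rw [h4] at h5
      have h6 := Ideal.mem_map_of_mem (Scheme.ΓSpecIso Γ(X₁, U.1)).hom.hom h5
      rw [Ideal.map_map] at h6
      have h7 : (Scheme.ΓSpecIso Γ(X₁, U.1)).hom.hom.comp (h₀ ≫ (Scheme.ΓSpecIso Γ(X₁, U.1)).inv).hom = h₀.hom := by
        have h8 : (h₀ ≫ (Scheme.ΓSpecIso Γ(X₁, U.1)).inv) ≫ (Scheme.ΓSpecIso Γ(X₁, U.1)).hom = h₀ := by
          rw [Category.assoc, Iso.inv_hom_id, Category.comp_id]
        exact congrArg CommRingCat.Hom.hom h8
      rw [h7] at h6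
      exact h6
  obtain ⟨g, hg1, hg2⟩ := LinLift.exists_algHom (J := J) (E := E') hK hK₁ hs hJ hloc
  obtain ⟨s, hs'⟩ := Groth.Agent.Sga3C.Affinization.exists_appTop_eq (X := X₁) (Z := Y) (CommRingCat.ofHom g.toRingHom)
  have hsg : ∀ y, s.appTop.hom y = g y := fun y => congrArg (fun f => f.hom y) hs'
  have hs1 : s ≫ q₁ = 𝟙 X₁ := by
    apply ext_of_isAffine
    rw [Scheme.Hom.comp_appTop, Scheme.Hom.id_appTop]
    apply CommRingCat.hom_ext
    ext y
    change s.appTop.hom (q₁.appTop.hom y) = y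
    rw [hsg]
    exact g.commutes y
  have hs2 : j ≫ s = t := by
    apply ext_of_isAffine
    rw [Scheme.Hom.comp_appTop]
    apply CommRingCat.hom_ext
    ext y
    change π (s.appTop.hom y) = τ y
    rw [hsg]
    obtain ⟨a, ha⟩ := hs y
    have h1 : y = algebraMap Γ(X₁, ⊤) Γ(Y, ⊤) a + (y - algebraMap Γ(X₁, ⊤) Γ(Y, ⊤) a) := by ring
    have h2 := hg1 _ ha
    rw [hK₁e, RingHom.mem_ker] at h2
    have h3 : τ (y - algebraMap Γ(X₁, ⊤) Γ(Y, ⊤) a) = 0 := ha
    rw [h1, map_add, map_add, map_add, h2, h3, g.commutes, hτπ]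
    rfl
  have hF1 : j ≫ s ≫ q₂ = φ := by rw [← Category.assoc, hs2, htq₂]
  refine ⟨s ≫ q₂, hF1, ?_, fun i => ?_⟩
  · rw [Category.assoc, ← hq, ← Category.assoc, hs1, Category.id_comp]
  · have hle : (D₂ i).comap (s ≫ q₂) ≤ E i := by
      apply Scheme.IdealSheafData.le_of_isAffine
      rw [Scheme.IdealSheafData.comap_comp, ideal_comap_top, Ideal.map_le_iff_le_comap]
      intro y hy
      rw [Ideal.mem_comap, hsg]
      exact hg2 i y hy
    refine ext_of_forall_mem fun x => ?_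
    obtain ⟨U, hxU, hU⟩ := hE x
    obtain ⟨ε, hε, hε'⟩ := hU i
    refine ⟨U, hxU, le_antisymm (hle U) ?_⟩
    have h1 : ((D₂ i).comap (s ≫ q₂)).comap j = (E i).comap j := by
      rw [← Scheme.IdealSheafData.comap_comp, hF1, hDE i]
    have h2 : (((D₂ i).comap (s ≫ q₂)).ideal U).map (j.app U.1).hom = ((E i).ideal U).map (j.app U.1).hom := by
      have h3 := congrArg (fun I => I.ideal (pre j U)) h1
      exact (ideal_pre_eq _ U).symm.trans (h3.trans (ideal_pre_eq _ U))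
    have hsj : Function.Surjective (j.app U.1).hom := Scheme.Hom.app_surjective j U.1 U.2
    rw [hε, Ideal.map_span, Set.image_singleton] at h2
    obtain ⟨z, hz, hz'⟩ := (Ideal.mem_map_iff_of_surjective _ hsj).1
      (h2.symm ▸ Ideal.mem_span_singleton_self _ :
        (j.app U.1).hom ε ∈ (((D₂ i).comap (s ≫ q₂)).ideal U).map (j.app U.1).hom)
    have h4 : z ∈ Ideal.span {ε} := hε ▸ hle U hz
    obtain ⟨a, rfl⟩ := Ideal.mem_span_singleton'.1 h4
    have h5 : IsUnit a := by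
      refine isUnit_of_map hsj (hj.isNilpotent U) ?_
      have h6 : (j.app U.1).hom a = 1 := by
        rw [map_mul] at hz'
        have h7 : ((j.app U.1).hom a - 1) * (j.app U.1).hom ε = 0 := by
          rw [sub_mul, hz', one_mul, sub_self]
        exact sub_eq_zero.1 ((mem_nonZeroDivisors_iff_right.1 hε') _ h7)
      rw [h6]
      exact isUnit_one
    rw [hε, Ideal.span_singleton_le_iff_mem]
    obtain ⟨u, rfl⟩ := h5
    have h6 : ε = ↑u⁻¹ * (↑u * ε) := by rw [← mul_assoc, Units.inv_mul, one_mul]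
    rw [h6]
    exact Ideal.mul_mem_left _ _ hz

end K235.LogMain
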