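import Groth.Prelude.Def_Frob
import Groth.Agent.Lift.K235.LogMain

/-!
# Liftings of pairs: generators, products, isomorphisms
-/

set_option autoImplicit false
universe u

open CategoryTheory CategoryTheory.Limits AlgebraicGeometry TopologicalSpace

namespace K235.LogPair

open K235.Thick K235.Alg K235.Chart K235.LogLift Groth.Agent.Divis.IdealComap

variable {X Y S T : Scheme.{u}} {r : ℕ}

/-- Local generators of the lifted divisors. -/
theorem exists_genAt {j : X ⟶ Y} [IsClosedImmersion j] [Surjective j] {f : X ⟶ S}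
    (hnj : ∀ W : Y.affineOpens, IsNilpotent (RingHom.ker (j.app W.1).hom))
    {D : Fin r → X.IdealSheafData} {Dl : Fin r → Y.IdealSheafData} (hD : HasCharts f D)
    (hDl : ∀ i, (Dl i).comap j = D i) (hg : ∀ i, LiftGen j (D i) (Dl i)) (y : Y) :
    ∃ W : Y.affineOpens, y ∈ W.1 ∧ GenAt j Dl W := by
  obtain ⟨x, rfl⟩ := j.surjective y
  choose U hU hU' using fun i => hg i (j x)
  let O' : Y.Opens := ⟨⋂ i, (U i : Set Y), isOpen_iInter_of_finite fun i => (U i).2⟩
  have hO' : j x ∈ O' := Set.mem_iInter.2 hU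
  obtain ⟨V₀, W₀, hxW₀, hW₀, ⟨c⟩⟩ := hD x (j ⁻¹ᵁ O') hO'
  obtain ⟨W, hW⟩ := exists_affineOpen j W₀
  obtain rfl : W₀ = pre j W := Subtype.ext hW.symm
  have hWO' : W.1 ≤ O' := by
    intro y hy
    obtain ⟨x, rfl⟩ := j.surjective y
    exact hW₀ hy
  refine ⟨W, hxW₀, fun i => ?_⟩
  rcases hi : c.e i with _ | k
  · have h1 := c.ideal_none i hi
    rw [← hDl i, ideal_pre_eq] at h1
    have h2 := ideal_eq_top_of_map (Scheme.Hom.app_surjective j W.1 W.2) (hnj W) _ h1
    refine ⟨1, by rw [h2, Ideal.span_singleton_one], ?_⟩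
    rw [map_one]
    exact one_mem _
  · obtain ⟨z, hz, hz'⟩ := hU' i W (fun y hy => Set.mem_iInter.1 (hWO' hy) i) (c.v k) (c.mem_nonZeroDivisors k)
      (c.ideal_some i k hi)
    exact ⟨z, hz', by rw [hz]; exact c.mem_nonZeroDivisors k⟩

theorem GenAt.pow {j : X ⟶ Y} {Dl : Fin r → Y.IdealSheafData} {W : Y.affineOpens} (h : GenAt j Dl W) (n : ℕ) :
    GenAt j (fun i => Dl i ^ n) W := by
  intro i
  obtain ⟨ε, h1, h2⟩ := h i
  refine ⟨ε ^ n, ?_, ?_⟩
  · rw [Scheme.IdealSheafData.ideal_pow, Pi.pow_apply, h1, Ideal.span_singleton_pow]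
  · rw [map_pow]
    exact pow_mem h2 n

theorem comap_finset_prod {ι : Type*} (s : Finset ι) (I : ι → Y.IdealSheafData) (f : X ⟶ Y) :
    (∏ i ∈ s, I i).comap f = ∏ i ∈ s, (I i).comap f := by
  classical
  induction s using Finset.induction_on with
  | empty =>
    rw [Finset.prod_empty, Finset.prod_empty, Scheme.IdealSheafData.one_eq_top, Scheme.IdealSheafData.one_eq_top,
      Scheme.IdealSheafData.comap_top]
  | insert a s ha ih => rw [Finset.prod_insert ha, Finset.prod_insert ha, comap_mul, ih]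

/-- A morphism of affine schemes which is an isomorphism modulo `p` is an isomorphism. -/
theorem isIso_of_isRed {p : ℕ} [IsAffine X] [IsAffine Y] [IsAffine T] {j : X ⟶ Y} (hj : IsRed p j) {j' : X ⟶ T}
    (hj' : IsRed p j') (F : Y ⟶ T) (h : j ≫ F = j') : IsIso F := by
  have h1 := hj.closed
  have h2 := hj'.closed
  have hk := hj.ker_app ⟨⊤, isAffineOpen_top Y⟩
  have hk' := hj'.ker_app ⟨⊤, isAffineOpen_top T⟩
  have hs : Function.Surjective j.appTop.hom := (IsClosedImmersion.isAffine_surjective_of_isAffine j).2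
  have hs' : Function.Surjective j'.appTop.hom := (IsClosedImmersion.isAffine_surjective_of_isAffine j').2
  have hc : ∀ b, j.appTop.hom (F.appTop.hom b) = j'.appTop.hom b := by
    intro b
    have h3 : (j ≫ F).appTop = F.appTop ≫ j.appTop := Scheme.Hom.comp_appTop _ _
    rw [h] at h3
    exact (congrArg (fun f => f.hom b) h3).symm
  have hbij : Function.Bijective F.appTop.hom := by
    constructor
    · rw [injective_iff_map_eq_zero]
      intro b hb
      have h3 : b ∈ RingHom.ker j'.appTop.hom := by rw [RingHom.mem_ker, ← hc, hb, map_zero]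
      obtain ⟨c, rfl⟩ := Ideal.mem_span_singleton'.1 (hk' ▸ h3 : b ∈ Ideal.span {(p : Γ(T, ⊤))})
      rw [map_mul, map_natCast] at hb
      have h4 := hj.ann' ⟨⊤, isAffineOpen_top Y⟩ (F.appTop.hom c) (by rw [mul_comm]; exact hb)
      have h5 : c ∈ RingHom.ker j'.appTop.hom := by
        rw [RingHom.mem_ker, ← hc]
        exact h4
      obtain ⟨d, rfl⟩ := Ideal.mem_span_singleton'.1 (hk' ▸ h5 : c ∈ Ideal.span {(p : Γ(T, ⊤))})
      have h6 := hj'.sq ⟨⊤, isAffineOpen_top T⟩
      rw [mul_assoc]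
      have h7 : (p : Γ(T, ⊤)) * (p : Γ(T, ⊤)) = 0 := h6
      rw [h7, mul_zero]
    · intro b
      obtain ⟨b', hb'⟩ := hs' (j.appTop.hom b)
      have h3 : b - F.appTop.hom b' ∈ RingHom.ker j.appTop.hom := by
        rw [RingHom.mem_ker, map_sub, hc, hb', sub_self]
      obtain ⟨a, ha⟩ := Ideal.mem_span_singleton'.1 (hk ▸ h3 : b - F.appTop.hom b' ∈ Ideal.span {(p : Γ(Y, ⊤))})
      obtain ⟨a', ha'⟩ := hs' (j.appTop.hom a)
      have h4 : a - F.appTop.hom a' ∈ RingHom.ker j.appTop.hom := by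
        rw [RingHom.mem_ker, map_sub, hc, ha', sub_self]
      obtain ⟨d, hd⟩ := Ideal.mem_span_singleton'.1 (hk ▸ h4 : a - F.appTop.hom a' ∈ Ideal.span {(p : Γ(Y, ⊤))})
      refine ⟨b' + a' * p, ?_⟩
      have h5 : (p : Γ(Y, ⊤)) * (p : Γ(Y, ⊤)) = 0 := hj.sq ⟨⊤, isAffineOpen_top Y⟩
      rw [map_add, map_mul, map_natCast]
      linear_combination ha + (p : Γ(Y, ⊤)) * hd - d * h5
  have h3 : IsIso F.appTop := by
    have h4 := (ConcreteCategory.isIso_iff_bijective F.appTop).2 hbij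
    exact h4
  exact (MorphismProperty.isomorphisms.iff F).1
    ((HasAffineProperty.iff_of_isAffine (P := MorphismProperty.isomorphisms Scheme.{u}) (f := F)).2 ⟨inferInstance, h3⟩)

/-- Locally principal ideals pulled back by the absolute Frobenius. -/
theorem comap_frob (p : ℕ) [Fact p.Prime] [FrobSch.IsCharP X p] (I : X.IdealSheafData)
    (hI : ∀ x : X, ∃ U : X.affineOpens, x ∈ U.1 ∧ ∃ ε, I.ideal U = Ideal.span {ε}) :
    I.comap (FrobSch.frob X p) = I ^ p := by
  refine ext_of_forall_mem fun x => ?_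
  obtain ⟨U, hxU, ε, hε⟩ := hI x
  refine ⟨U, hxU, ?_⟩
  have h1 : (FrobSch.frob X p).appLE U.1 U.1 le_rfl = (FrobSch.frob X p).app U.1 :=
    (Scheme.Hom.app_eq_appLE (FrobSch.frob X p)).symm
  rw [ideal_comap I (FrobSch.frob X p) U U le_rfl, Scheme.IdealSheafData.ideal_pow, Pi.pow_apply, hε, Ideal.map_span,
    Set.image_singleton, Ideal.span_singleton_pow]
  have h2 : ((FrobSch.frob X p).appLE U.1 U.1 le_rfl).hom ε = ε ^ p :=
    (congrArg (fun f => f.hom ε) h1).trans (FrobSch.frob_app X p U.1 ε)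
  exact congrArg (fun z => Ideal.span {z}) h2

end K235.LogPair
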