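import Groth.Agent.Lift.K235.Thick
import Groth.Agent.Sga3C.Affinization

/-!
# First-order neighbourhoods of graphs

For `j : X ⟶ X₁` a closed immersion and `φ : X ⟶ X₂` over a base `S` there is the first-order neighbourhood `Y₁` of the
graph `X ⟶ X₁ ×_S X₂`: every pair of morphisms `U ⟶ X₁`, `U ⟶ X₂` over `S` from a square-zero thickening of a scheme over `X`
factors through `Y₁`.
-/

set_option autoImplicit false
universe u

open CategoryTheory CategoryTheory.Limits AlgebraicGeometry TopologicalSpace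

namespace K235.Nbhd

open K235.Thick Groth.Agent.Divis.IdealComap

variable {X X₁ X₂ S : Scheme.{u}}

theorem comap_map {Y₁ Y : Scheme.{u}} (i : Y₁ ⟶ Y) [IsClosedImmersion i] (I : Y₁.IdealSheafData) :
    (I.map i).comap i = I := by
  refine ext_of_forall_mem fun y => ?_
  obtain ⟨U, hU, hyU, -⟩ := exists_isAffineOpen_mem_and_subset (X := Y) (x := i y) (U := ⊤) trivial
  refine ⟨⟨i ⁻¹ᵁ U, hU.preimage i⟩, hyU, ?_⟩
  rw [ideal_comap _ i ⟨U, hU⟩ ⟨i ⁻¹ᵁ U, hU.preimage i⟩ le_rfl,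
    Scheme.IdealSheafData.ideal_map_of_isAffineHom I i ⟨U, hU⟩]
  have h1 : (i.appLE U (i ⁻¹ᵁ U) le_rfl) = i.app U := (Scheme.Hom.app_eq_appLE i).symm
  have h3 : Function.Surjective (i.app U).hom := Scheme.Hom.app_surjective i U hU
  refine (congrArg (fun ψ => Ideal.map (CommRingCat.Hom.hom ψ)
    ((I.ideal ⟨i ⁻¹ᵁ U, hU.preimage i⟩).comap (i.app U).hom)) h1).trans ?_
  exact Ideal.map_comap_of_surjective _ h3 _

/-- The ideal of a closed subscheme of a closed subscheme. -/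
theorem comap_ker_comp {Z Y₁ Y : Scheme.{u}} (t : Z ⟶ Y₁) (i : Y₁ ⟶ Y) [IsClosedImmersion i] :
    (t ≫ i).ker.comap i = t.ker := by
  rw [Scheme.Hom.ker_comp, comap_map]

theorem exists_nbhd (g₁ : X₁ ⟶ S) (g₂ : X₂ ⟶ S) [IsSeparated g₂] [LocallyOfFiniteType g₂] (j : X ⟶ X₁)
    [IsClosedImmersion j] (φ : X ⟶ X₂) (w : j ≫ g₁ = φ ≫ g₂) :
    ∃ (Y : Scheme.{u}) (t : X ⟶ Y) (q₁ : Y ⟶ X₁) (q₂ : Y ⟶ X₂), IsClosedImmersion t ∧ t.ker * t.ker = ⊥ ∧
      q₁ ≫ g₁ = q₂ ≫ g₂ ∧ t ≫ q₁ = j ∧ t ≫ q₂ = φ ∧ LocallyOfFiniteType q₁ ∧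
      ∀ (U₀ U : Scheme.{u}) (i : U₀ ⟶ U) (_ : IsClosedImmersion i) (_ : i.ker * i.ker = ⊥) (a : U ⟶ X₁) (b : U ⟶ X₂)
        (x : U₀ ⟶ X), a ≫ g₁ = b ≫ g₂ → i ≫ a = x ≫ j → i ≫ b = x ≫ φ →
        ∃ c : U ⟶ Y, c ≫ q₁ = a ∧ c ≫ q₂ = b ∧ i ≫ c = x ≫ t := by
  let σ : X ⟶ pullback g₁ g₂ := pullback.lift j φ w
  have hσ1 : σ ≫ pullback.fst g₁ g₂ = j := pullback.lift_fst _ _ _
  have hσ2 : σ ≫ pullback.snd g₁ g₂ = φ := pullback.lift_snd _ _ _
  have hc : IsClosedImmersion (σ ≫ pullback.fst g₁ g₂) := by rw [hσ1]; infer_instance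
  have hσ : IsClosedImmersion σ := IsClosedImmersion.of_comp σ (pullback.fst g₁ g₂)
  let I := σ.ker * σ.ker
  have hle : I ≤ σ.ker := by
    intro U
    change (σ.ker * σ.ker).ideal U ≤ σ.ker.ideal U
    rw [Scheme.IdealSheafData.ideal_mul, Pi.mul_apply]
    exact Ideal.mul_le_left
  have hle' : I.subschemeι.ker ≤ σ.ker := by
    rw [Scheme.IdealSheafData.ker_subschemeι]
    exact hle
  let t : X ⟶ I.subscheme := IsClosedImmersion.lift I.subschemeι σ hle'
  have ht : t ≫ I.subschemeι = σ := IsClosedImmersion.lift_fac _ _ _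
  have hc' : IsClosedImmersion (t ≫ I.subschemeι) := by rw [ht]; infer_instance
  have htc : IsClosedImmersion t := IsClosedImmersion.of_comp t I.subschemeι
  have hker : t.ker * t.ker = ⊥ := by
    rw [← comap_ker_comp t I.subschemeι, ht, ← comap_mul]
    refine le_bot_iff.1 (Scheme.IdealSheafData.le_map_iff_comap_le.1 ?_)
    rw [Scheme.IdealSheafData.map_bot, Scheme.IdealSheafData.ker_subschemeι]
  refine ⟨I.subscheme, t, I.subschemeι ≫ pullback.fst g₁ g₂, I.subschemeι ≫ pullback.snd g₁ g₂, htc, hker, ?_, ?_, ?_,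
    inferInstance, ?_⟩
  · rw [Category.assoc, Category.assoc, pullback.condition]
  · rw [← Category.assoc, ht, hσ1]
  · rw [← Category.assoc, ht, hσ2]
  · intro U₀ U i hi hi2 a b x hab hia hib
    let c₀ : U ⟶ pullback g₁ g₂ := pullback.lift a b hab
    have hc₀ : i ≫ c₀ = x ≫ σ := by
      apply pullback.hom_ext
      · rw [Category.assoc, Category.assoc, pullback.lift_fst, hσ1, hia]
      · rw [Category.assoc, Category.assoc, pullback.lift_snd, hσ2, hib]
    have h1 : I.subschemeι.ker ≤ c₀.ker := by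
      rw [Scheme.IdealSheafData.ker_subschemeι, ← Scheme.IdealSheafData.map_bot,
        Scheme.IdealSheafData.le_map_iff_comap_le, comap_mul]
      have h2 : σ.ker.comap c₀ ≤ i.ker := by
        rw [← Scheme.IdealSheafData.le_map_iff_comap_le, ← Scheme.Hom.ker_comp, hc₀]
        exact Scheme.Hom.le_ker_comp _ _
      rw [← hi2]
      intro W
      rw [Scheme.IdealSheafData.ideal_mul, Scheme.IdealSheafData.ideal_mul, Pi.mul_apply, Pi.mul_apply]
      exact Ideal.mul_mono (h2 W) (h2 W)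
    refine ⟨IsClosedImmersion.lift I.subschemeι c₀ h1, ?_, ?_, ?_⟩
    · rw [← Category.assoc, IsClosedImmersion.lift_fac, pullback.lift_fst]
    · rw [← Category.assoc, IsClosedImmersion.lift_fac, pullback.lift_snd]
    · rw [← cancel_mono I.subschemeι, Category.assoc, Category.assoc, IsClosedImmersion.lift_fac, ht, hc₀]

end K235.Nbhd
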